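import Cfsg.Agent.CTwoTab.Co3
import Cfsg.Agent.H555.TwoSp.CoThreeFacts
import Cfsg.Agent.Classification.TypeZ.Congr
import Cfsg.Agent.Blocks.ReynoldsAux

/-!
# S4546, F_Co3, piece Q5a (helper857)

For `w` in the class `2B` of `Co₃` and `χ` irreducible with `χ(w) = r`: the central character `k = 2608200 r / χ(1)`
is an integer with `(k² - 1) χ(1)` divisible by 11.
-/

set_option autoImplicit false

open Cfsg Subgroup
open Cfsg.Agent.SporRec.Co3.Chain Cfsg.Agent.SporRec.Co3.Ident

namespace Cfsg.Agent.H857.KKL.QFiveA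

/-- an integer which is a multiple of `N` by an algebraic integer is divisible by `N` -/
theorem dvd_of_mul {a N : ℤ} (hN : N ≠ 0) {c : ℂ} (hc : IsIntegral ℤ c) (h : (a : ℂ) = N * c) : N ∣ a := by
  have hN' : (N : ℂ) ≠ 0 := by exact_mod_cast hN
  have h1 : c = ((a / N : ℚ) : ℂ) := by
    push_cast
    rw [eq_div_iff hN', h, mul_comm]
  rw [h1] at hc
  have h2 : IsIntegral ℤ (a / N : ℚ) := (isIntegral_algebraMap_iff (FaithfulSMul.algebraMap_injective ℚ ℂ)).1 hc
  obtain ⟨z, hz⟩ := IsIntegrallyClosed.isIntegral_iff.1 h2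
  refine ⟨z, ?_⟩
  have h3 : (N : ℚ) ≠ 0 := by exact_mod_cast hN
  have h4 : (z : ℚ) = a / N := hz
  rw [eq_div_iff h3] at h4
  have h5 : z * N = a := by exact_mod_cast h4
  rw [← h5, mul_comm]

theorem card_M12 : Nat.card Spor.M12 = 95040 := Cfsg.Agent.MTwelveType.SylowModel.card_M12

/-- the centre of a simple group of order 95040 -/
theorem center_bot {U : Type*} [Group U] (hU : IsSimpleGroup U) (hc : Nat.card U = 95040) : center U = ⊥ := by
  have : Finite U := Nat.finite_of_card_ne_zero (by rw [hc]; norm_num)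
  rcases (inferInstance : (center U).Normal).eq_bot_or_eq_top with h | h
  · exact h
  · exfalso
    let _ : CommGroup U := Group.commGroupOfCenterEqTop h
    have h1 := IsSimpleGroup.prime_card (α := U)
    rw [hc] at h1
    revert h1
    norm_num

/-- the centralizer of `w` -/
theorem card_w {X U : Type*} [Group X] [Group U] [Finite X] {t w : X} (hX : Nat.card X ≠ 95040)
    (hd : CTwoTab.Co3.Data X U t w) :
    w * w = 1 ∧ w ≠ 1 ∧ Nat.card ↥(centralizer ({w} : Set X)) = 190080 := by
  obtain ⟨f, hf, hk⟩ := hd.hom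
  set wc : ↥(centralizer ({w} : Set X)) := ⟨w, mem_centralizer_singleton_iff.2 rfl⟩ with hwc
  have hfw : f wc = 1 := by
    have h1 : f wc ∈ center U := by
      rw [mem_center_iff]
      intro g
      obtain ⟨x, rfl⟩ := hf g
      rw [← map_mul, ← map_mul]
      congr 1
      exact Subtype.ext (mem_centralizer_singleton_iff.1 x.2)
    rwa [center_bot hd.simple hd.card, mem_bot] at h1
  have hcard : Nat.card ↥(centralizer ({w} : Set X)) = Nat.card f.ker * 95040 := by
    rw [← hd.card, ← Nat.card_congr (QuotientGroup.quotientKerEquivOfSurjective f hf).toEquiv, mul_comm]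
    exact (card_eq_card_quotient_mul_card_subgroup f.ker)
  have hw1 : w ≠ 1 := by
    rintro rfl
    have hk1 : f.ker = ⊥ := by
      rw [eq_bot_iff]
      intro x hx
      rcases hk x hx with h | h
      · exact h
      · exact Subtype.ext h
    rw [hk1, card_bot, one_mul] at hcard
    have h2 : centralizer ({(1 : X)} : Set X) = ⊤ := by
      rw [eq_top_iff]
      intro x _
      rw [mem_centralizer_singleton_iff]
      simp
    rw [h2, card_top] at hcard
    exact hX hcard
  have hww : w * w = 1 := by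
    have h1 : wc * wc ∈ f.ker := mul_mem hfw hfw
    rcases hk _ h1 with h | h
    · exact congrArg Subtype.val h
    · exact absurd (mul_eq_left.1 h) hw1
  refine ⟨hww, hw1, ?_⟩
  have h2 : Nat.card f.ker = 2 := by
    have h3 : (f.ker : Set _) = {1, wc} := by
      ext x
      constructor
      · intro hx
        rcases hk x hx with h | h
        · exact Or.inl h
        · exact Or.inr (Subtype.ext h)
      · rintro (rfl | rfl)
        · exact one_mem _
        · exact hfw
    have h4 : Nat.card f.ker = Set.ncard (f.ker : Set ↥(centralizer ({w} : Set X))) := rfl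
    rw [h4, h3, Set.ncard_pair]
    intro h5
    exact hw1 (congrArg Subtype.val h5).symm
  rw [hcard, h2]

/-- centralizers of elements of order 11 -/
theorem cent_11 {y : G3} (hy : orderOf y = 11) : Nat.card (centralizer ({y} : Set G3)) = 22 := by
  have h := Cfsg.Agent.H555.TwoSp.c11 (T := G3) ⟨Cfsg.Agent.SporRec.Co3.Model.equivCo3⟩ (zpowers y)
    (by rw [Nat.card_zpowers, hy])
  have e : centralizer ((zpowers y : Subgroup G3) : Set G3) = centralizer ({y} : Set G3) := by
    ext x
    rw [mem_centralizer_singleton_iff, mem_centralizer_iff]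
    constructor
    · intro h
      exact (h y (mem_zpowers y)).symm
    · rintro h _ ⟨k, rfl⟩
      exact ((show Commute y x from h.symm).zpow_left k).eq
  rwa [e] at h

/-- two commuting-with-`y` involutions are equal if `|C(y)| = 22` -/
theorem eq_of_comm {G : Type*} [Group G] [Finite G] {y s w : G} (hy : orderOf y = 11)
    (hc : Nat.card (centralizer ({y} : Set G)) = 22) (hs : s * s = 1) (hs1 : s ≠ 1) (hw : w * w = 1) (hw1 : w ≠ 1)
    (hsy : s * y = y * s) (hwy : w * y = y * w) : s = w := by
  set C := centralizer ({y} : Set G) with hC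
  have hyC : zpowers y ≤ C := by
    rw [zpowers_le, mem_centralizer_singleton_iff]
  -- the quotient by `<y>` has order 2
  have hN : ((zpowers y).subgroupOf C).Normal := by
    constructor
    rintro n hn g
    have h1 : (g : G) * (n : G) * (g : G)⁻¹ = n := by
      obtain ⟨k, hk⟩ := mem_zpowers_iff.1 (mem_subgroupOf.1 hn)
      have h2 : (g : G) * y = y * g := mem_centralizer_singleton_iff.1 g.2
      rw [← hk]
      have h3 : Commute (g : G) (y ^ k) := (show Commute (g : G) y from h2).zpow_right k
      rw [h3.eq, mul_inv_cancel_right]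
    rw [mem_subgroupOf]
    show (g : G) * (n : G) * (g : G)⁻¹ ∈ zpowers y
    rw [h1]
    exact mem_subgroupOf.1 hn
  have hidx : ((zpowers y).subgroupOf C).index = 2 := by
    have h1 := ((zpowers y).subgroupOf C).card_mul_index
    rw [hc, Nat.card_congr (subgroupOfEquivOfLe hyC).toEquiv, Nat.card_zpowers, hy] at h1
    omega
  have hsC : s ∈ C := mem_centralizer_singleton_iff.2 hsy
  have hwC : w ∈ C := mem_centralizer_singleton_iff.2 hwy
  have key : ∀ u : G, u ∈ zpowers y → u * u = 1 → u = 1 := by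
    intro u hu huu
    obtain ⟨k, rfl⟩ := hu
    have h1 : y ^ (k + k) = 1 := by rw [zpow_add]; exact huu
    rw [← orderOf_dvd_iff_zpow_eq_one, hy] at h1
    have h2 : ((11 : ℕ) : ℤ) ∣ k := by omega
    rw [← hy, orderOf_dvd_iff_zpow_eq_one] at h2
    exact h2
  have hsn : s ∉ zpowers y := fun h => hs1 (key s h hs)
  have hwn : w ∉ zpowers y := fun h => hw1 (key w h hw)
  have h3 : s * w ∈ zpowers y := by
    have h4 := (Subgroup.mul_mem_iff_of_index_two hidx (a := ⟨s, hsC⟩) (b := ⟨w, hwC⟩)).2
      (by simp only [mem_subgroupOf]; exact iff_of_false hsn hwn)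
    exact mem_subgroupOf.1 h4
  obtain ⟨k, hk⟩ := h3
  have hk' : s * w = y ^ k := hk.symm
  -- `s w` commutes with `s`
  have h5 : s * (s * w) = (s * w) * s := by
    rw [hk']
    exact ((show Commute s y from hsy).zpow_right k).eq
  have h6 : w = s * w * s := by
    rw [← h5, ← mul_assoc, hs, one_mul]
  have h7 : (s * w) * (s * w) = 1 := by
    rw [← mul_assoc, ← h6, hw]
  have h8 := key (s * w) ⟨k, hk⟩ h7
  have h9 : s * w * w = w := by rw [h8, one_mul]
  rwa [mul_assoc, hw, mul_one] at h9

theorem Q5a {w : G3} (hd : CTwoTab.Co3.Data G3 Spor.M12 Z w) (χ : IrrCharacter G3) (r : ℤ)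
    (hr : (χ : G3 → ℂ) w = (r : ℂ)) :
    ∃ k : ℤ, k * charDegree (χ : G3 → ℂ) = 2608200 * r ∧ (11 : ℤ) ∣ (k * k - 1) * charDegree (χ : G3 → ℂ) := by
  classical
  have hf : Finite G3 := Nat.finite_of_card_ne_zero (by rw [isCo3_G3.2]; norm_num)
  obtain ⟨hww, hw1, hcw⟩ := card_w (by rw [isCo3_G3.2]; norm_num) hd
  have hidx : (centralizer ({w} : Set G3)).index = 2608200 := by
    have h1 := (centralizer ({w} : Set G3)).card_mul_index
    rw [hcw, isCo3_G3.2] at h1
    omega
  have hdeg : ((charDegree (χ : G3 → ℂ) : ℕ) : ℂ) = (χ : G3 → ℂ) 1 :=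
    Cfsg.Agent.Blocks.ReynoldsAux.coe_charDegree (Cfsg.Agent.Characters.Core.isIrr_isCharacter χ.2)
  have hd0 : ((charDegree (χ : G3 → ℂ) : ℕ) : ℂ) ≠ 0 := by
    rw [hdeg]
    exact Cfsg.Agent.Characters.Central.irr_one_ne_zero χ.2
  set d : ℕ := charDegree (χ : G3 → ℂ) with hdd
  have hd0' : (d : ℤ) ≠ 0 := by
    intro h
    apply hd0
    exact_mod_cast congrArg (fun z : ℤ => (z : ℂ)) h
  -- the central character
  have hom : centralChar (χ : G3 → ℂ) w * d = 2608200 * r := by
    unfold centralChar
    rw [hidx, hr, ← hdeg, div_mul_cancel₀ _ hd0]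
    norm_num
  have hint := Cfsg.Agent.Blocks.Central.isIntegral_centralChar χ.2 w
  obtain ⟨k, hk⟩ := dvd_of_mul (a := 2608200 * r) hd0' hint (by push_cast; rw [← hom, mul_comm])
  have hk' : centralChar (χ : G3 → ℂ) w = k := by
    have h1 : ((2608200 * r : ℤ) : ℂ) = ((d * k : ℤ) : ℂ) := by rw [hk]
    push_cast at h1
    rw [← hom, mul_comm] at h1
    exact mul_left_cancel₀ hd0 h1
  refine ⟨k, by rw [hk]; ring, ?_⟩
  -- an element of order 11
  have h11 : Fact (Nat.Prime 11) := ⟨by norm_num⟩
  obtain ⟨yc, hyc⟩ := exists_prime_orderOf_dvd_card' (G := ↥(centralizer ({w} : Set G3))) 11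
    (by rw [hcw]; norm_num)
  set y : G3 := (yc : G3) with hy0
  have hy : orderOf y = 11 := by rw [hy0, orderOf_coe, hyc]
  have hyw : y * w = w * y := mem_centralizer_singleton_iff.1 yc.2
  have hyw' : ∀ a ∈ zpowers y, a * w = w * a := by
    rintro _ ⟨j, rfl⟩
    exact ((show Commute y w from hyw).zpow_left j).eq
  obtain ⟨c, hc, e⟩ := Classification.TypeZ.Congr.congr_mod χ.2 (t := w) (g := w) (zpowers y) hyw' hyw' (N := 11) (by
    intro s hs hsw
    have hss : s * s = 1 := by
      obtain ⟨g, hg⟩ := isConj_iff.1 hs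
      rw [← hg]
      have h1 : g * w * g⁻¹ * (g * w * g⁻¹) = g * (w * w) * g⁻¹ := by group
      rw [h1, hww]; group
    have hs1 : s ≠ 1 := by
      rintro rfl
      obtain ⟨g, hg⟩ := isConj_iff.1 hs
      apply hw1
      have h1 : w = g⁻¹ * (g * w * g⁻¹) * g := by group
      rw [h1, hg]; group
    have h1 : centralizer ({s} : Set G3) ⊓ zpowers y = ⊥ := by
      have h2 : Nat.card ↥(centralizer ({s} : Set G3) ⊓ zpowers y : Subgroup G3) ∣ 11 := by
        have h3 := card_dvd_of_le (inf_le_right : centralizer ({s} : Set G3) ⊓ zpowers y ≤ zpowers y)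
        rwa [Nat.card_zpowers, hy] at h3
      rcases (Nat.dvd_prime (by norm_num)).1 h2 with h3 | h3
      · exact card_eq_one.1 h3
      · exfalso
        have h4 : centralizer ({s} : Set G3) ⊓ zpowers y = zpowers y := by
          refine eq_of_le_of_card_ge inf_le_right ?_
          rw [h3, Nat.card_zpowers, hy]
        have h5 : y ∈ centralizer ({s} : Set G3) := by
          have h6 : y ∈ centralizer ({s} : Set G3) ⊓ zpowers y := by
            rw [h4]; exact mem_zpowers y
          exact h6.1
        exact hsw (eq_of_comm hy (cent_11 hy) hss hs1 hww hw1 (mem_centralizer_singleton_iff.1 h5).symm hyw.symm)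
    have h2 : (centralizer ({s} : Set G3)).relIndex (zpowers y) = 11 := by
      rw [← inf_relIndex_right, h1, relIndex_bot_left, Nat.card_zpowers, hy]
    rw [h2])
  rw [hk', hr, hww, ← hdeg] at e
  have h1 : (11 : ℤ) ∣ k * r - d := by
    refine dvd_of_mul (by norm_num) hc ?_
    push_cast
    rw [e]
    push_cast
    ring
  have h2 : (k * k - 1) * (d : ℤ) = 11 * (237109 * (k * r)) + (k * r - d) := by
    have h3 : (k * k - 1) * (d : ℤ) = k * (d * k) - d := by ring
    rw [h3, ← hk]
    ring
  rw [h2]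
  exact dvd_add (dvd_mul_right _ _) h1

end Cfsg.Agent.H857.KKL.QFiveA
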