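import Cfsg.Agent.H557.ToralMain

/-!
S4546, X3 (TOR lemma), abstract part: involutions of a group with root group data over a finite field of odd order
are conjugate (by an element of the group generated by the root groups) to `θ * ∏ n i`, `i` in a list of orthogonal
nodes, with nonsquare invariants.
-/

set_option autoImplicit false
set_option linter.unusedSectionVars false

namespace Cfsg.Agent.H857.KKL.TorAbs

open CoxeterSystem Cfsg.Agent.ChevalleyStructure.CoxeterGeom Cfsg.Agent.Tits.Roots Cfsg.Agent.Tits.Core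
  Cfsg.Agent.Tits.RootComb Cfsg.Agent.Nodes.Comb Cfsg.Agent.Nodes.Reps Cfsg.Agent.Nodes.BNOf
  Cfsg.Agent.Nodes.RGDLib Cfsg.Agent.Nodes.Bruhat Cfsg.Agent.Nodes.NormalForm Cfsg.Agent.Nodes.OppDec
open Cfsg.Agent.H557.SLTwist Cfsg.Agent.H557.InvForm Cfsg.Agent.H557.Toral
open Cfsg.Agent.FixBN.FieldRGD (uu vv dd ww)
open scoped MatrixGroups

variable {I W Y K : Type*} [Fintype I] [DecidableEq I] [Group W] [Group Y] [Field K] {M : CoxeterMatrix I}
  {cs : CoxeterSystem M W} {A : I → I → ℤ} {h : IsCartan M A} {p : ℕ} {T : Subgroup Y} {n : I → Y}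
  {X : (I → ℤ) → Subgroup Y}

/-- the torus element of the node `i` -/
def ht {I Y K : Type*} [Group Y] [Field K] (φ : I → SL(2, K) →* Y) (i : I) (c : Kˣ) : Y := φ i (dd (c : K) c.ne_zero)

theorem ht_mul {I Y K : Type*} [Group Y] [Field K] {φ : I → SL(2, K) →* Y} (i : I) (a b : Kˣ) :
    ht φ i (a * b) = ht φ i a * ht φ i b := by
  unfold ht
  rw [← map_mul]
  congr 1
  apply Subtype.ext
  show !![((a * b : Kˣ) : K), 0; 0, ((a * b : Kˣ) : K)⁻¹] = !![(a : K), 0; 0, (a : K)⁻¹] * !![(b : K), 0; 0, (b : K)⁻¹]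
  rw [Matrix.mul_fin_two, Units.val_mul, mul_inv]
  congr 1
  ext i j
  fin_cases i <;> fin_cases j <;> simp

/-- homomorphisms from `SL(2, K)` onto the rank one groups of the simple roots -/
structure SLS (cs : CoxeterSystem M W) (h : IsCartan M A) (hN : NSys M T n) (X : (I → ℤ) → Subgroup Y)
    (φ : I → SL(2, K) →* Y) (χ : I → Y → K) : Prop where
  up : ∀ i y, y ∈ X (sr i) ↔ ∃ a, φ i (uu a) = y
  lo : ∀ i y, y ∈ X (-sr i) ↔ ∃ a, φ i (vv a) = y
  iup : ∀ i a b, φ i (uu a) = φ i (uu b) → a = b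
  ilo : ∀ i a b, φ i (vv a) = φ i (vv b) → a = b
  eww : ∀ i, φ i (ww 1 one_ne_zero) = n i
  mdd : ∀ i c hc, φ i (dd c hc) ∈ T
  ne : ∀ i, ∀ t ∈ T, χ i t ≠ 0
  tup : ∀ i, ∀ t ∈ T, ∀ a, t * φ i (uu a) * t⁻¹ = φ i (uu (χ i t * a))
  tlo : ∀ i, ∀ t ∈ T, ∀ a, t * φ i (vv a) * t⁻¹ = φ i (vv ((χ i t)⁻¹ * a))
  chd : ∀ i j c hc, χ j (φ i (dd c hc)) = c ^ A i j
  sup : ∀ i w k, Rp cs hN w k → rep cs h w (sr i) = -sr i →
    ∃ c, c ≠ 0 ∧ ∀ a, k * φ i (uu a) * k⁻¹ = φ i (vv (c * a))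
  slo : ∀ i w k, Rp cs hN w k → rep cs h w (sr i) = -sr i →
    ∃ c, c ≠ 0 ∧ ∀ a, k * φ i (vv a) * k⁻¹ = φ i (uu (c * a))

section

variable (R : RGD cs h p T n X) {φ : I → SL(2, K) →* Y} {χ : I → Y → K} (S : SLS cs h R.nsys X φ χ)

include R in
/-- `exists_conj_N` with the conjugating element in the group of positive root groups -/
theorem conj_N [Finite W] (hp2 : Odd p) {w : W} {t : Y} (ht : Cell R.nsys cs h X w t) (h2 : t * t = 1) :
    ∃ g ∈ RGD.Sup X (RGD.Pos cs h), ∃ k, Rp cs R.nsys w k ∧ k * k = 1 ∧ g * t * g⁻¹ = k := by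
  have hww : w = w⁻¹ := by
    have h1 := ht.inv
    rw [inv_eq_of_mul_eq_one_left h2] at h1
    exact Cell.unique R ht h1
  obtain ⟨u, hu, k, hk, v, hv, rfl⟩ := exists_normal_form R ht
  have hv' : v ∈ RGD.Sup X (RGD.Pos cs h) :=
    RGD.Sup_mono (S := NW cs h w) (S' := RGD.Pos cs h) (fun x hx => ⟨hx.1, hx.2.1⟩) hv
  obtain ⟨a, ha⟩ : ∃ a, a = v * u := ⟨_, rfl⟩
  have haU : a ∈ RGD.Sup X (RGD.Pos cs h) := by rw [ha]; exact mul_mem hv' hu
  have e1 : a * k * (a * k) = 1 := by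
    have : a * k * (a * k) = v * (u * k * v * (u * k * v)) * v⁻¹ := by rw [ha]; group
    rw [this, h2]; group
  have hkT : k * k ∈ T := by
    have h1 := hk.mul hk
    rw [show w * w = 1 by nth_rewrite 2 [hww]; exact mul_inv_cancel w] at h1
    exact h1.mem_of_one
  obtain ⟨b, hb, c, hc, hbc⟩ := exists_PW_NW R w haU
  have e2 : k * a * k⁻¹ = a⁻¹ * (k * k)⁻¹ := by
    have : k * a * k⁻¹ = a⁻¹ * (a * k * (a * k)) * (k * k)⁻¹ := by group
    rw [this, e1, mul_one]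
  have hkb : k * b * k⁻¹ ∈ RGD.Sup X (RGD.Pos cs h) :=
    conj_mem_Sup R hk (S' := RGD.Pos cs h) (fun x hx => hx.1) (fun x hx => ⟨hx.1.act _, hx.2.2⟩) hb
  have hkc : k * c * k⁻¹ ∈ UN cs h X :=
    conj_mem_Sup R hk (S' := Neg cs h) (fun x hx => hx.1) (fun x hx => ⟨hx.1.act _, hx.2.2⟩) hc
  have e3 : k * c * k⁻¹ = (k * b * k⁻¹)⁻¹ * (a⁻¹ * (k * k)⁻¹) := by
    rw [← e2, hbc]; group
  have hkc' : k * c * k⁻¹ ∈ RGD.B cs h T X := by
    rw [e3]
    exact mul_mem (inv_mem (RGD.U_le_B hkb)) (mul_mem (inv_mem (RGD.U_le_B haU)) (RGD.T_le_B (inv_mem hkT)))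
  have e4 := eq_one_of_mem_UN_of_mem_B R hkc hkc'
  have hc1 : c = 1 := by
    have : c = k⁻¹ * (k * c * k⁻¹) * k := by group
    rw [this, e4]; group
  rw [hc1, mul_one] at hbc
  subst hbc
  have h5 : (k * k)⁻¹ ∈ RGD.Sup X (RGD.Pos cs h) ⊓ T := by
    refine Subgroup.mem_inf.2 ⟨?_, inv_mem hkT⟩
    have : (k * k)⁻¹ = a * (k * a * k⁻¹) := by rw [e2]; group
    rw [this]
    exact mul_mem haU hkb
  rw [U_inf_T R, Subgroup.mem_bot] at h5
  have hkk : k * k = 1 := by rwa [inv_eq_one] at h5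
  rw [h5, mul_one] at e2
  have hodd : Odd (orderOf a) := by
    obtain ⟨m, hm⟩ := R.isPGroup_Upos ⟨a, haU⟩
    have h6 : a ^ p ^ m = 1 := congrArg Subtype.val hm
    exact Odd.of_dvd_nat (hp2.pow) (orderOf_dvd_of_pow_eq_one h6)
  obtain ⟨m, hm⟩ := exists_sqrt hodd
  refine ⟨(a ^ m)⁻¹ * v, mul_mem (inv_mem (pow_mem haU m)) hv', k, hk, hkk, ?_⟩
  have e6 : k * a ^ m * k⁻¹ = (a ^ m)⁻¹ := by
    have h7 : k * a ^ m * k⁻¹ = (k * a * k⁻¹) ^ m := conj_pow.symm
    rw [h7, e2, inv_pow]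
  have e7 : (a ^ m)⁻¹ * v * (u * k * v) * ((a ^ m)⁻¹ * v)⁻¹ = (a ^ m)⁻¹ * (v * u) * (k * a ^ m * k⁻¹) * k := by
    group
  rw [e7, e6, ← ha]
  nth_rewrite 2 [← hm]
  group

theorem U_le_G1 : RGD.Sup X (RGD.Pos cs h) ≤ G1 cs h X :=
  RGD.Sup_mono (S := RGD.Pos cs h) (S' := {x | IsRoot cs h x}) (fun _ hx => hx.1)

include S

theorem phi_mem (i : I) (g : SL(2, K)) : φ i g ∈ G1 cs h X := by
  have h3 : Subgroup.comap (φ i) (G1 cs h X) = ⊤ := by
    refine Cfsg.Agent.OddHalf.NI.Mult.mem_of_up_lo (fun b => ?_) (fun b => ?_)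
    · exact X_le_G1 (isRoot_sr cs h i) ((S.up i _).2 ⟨b, rfl⟩)
    · exact X_le_G1 (isRoot_sr cs h i).neg ((S.lo i _).2 ⟨b, rfl⟩)
  have h4 : g ∈ Subgroup.comap (φ i) (G1 cs h X) := by rw [h3]; exact Subgroup.mem_top g
  exact h4

theorem n_mem (i : I) : n i ∈ G1 cs h X := by rw [← S.eww i]; exact phi_mem R S i _

theorem theta_of {w : W} {k : Y} (hk : Rp cs R.nsys w k) (hkk : k * k = 1) {i : I}
    (hi : rep cs h w (sr i) = -sr i) :
    ∃ c : K, ∃ hc : c ≠ 0, (∀ a, k * φ i (uu a) * k⁻¹ = φ i (vv (c * a))) ∧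
      ∀ g, k * φ i g * k⁻¹ = φ i (theta c hc g) := by
  obtain ⟨c, hc, e⟩ := S.sup i w k hk hi
  obtain ⟨c', hc', e'⟩ := S.slo i w k hk hi
  have hcc : c' * c = 1 := by
    have h1 := e' (c * 1)
    rw [← e 1] at h1
    have h2 : k * (k * φ i (uu 1) * k⁻¹) * k⁻¹ = k * k * φ i (uu 1) * (k * k)⁻¹ := by group
    rw [h2, hkk, one_mul, inv_one, mul_one] at h1
    have h3 := S.iup i _ _ h1
    rw [mul_one] at h3
    exact h3.symm
  refine ⟨c, hc, e, conj_eq _ k hc e (fun b => ?_)⟩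
  rw [e']
  congr 2
  rw [eq_div_iff hc, mul_assoc, mul_comm b, ← mul_assoc, hcc, one_mul]

theorem rp_dd' {w : W} {k : Y} (hk : Rp cs R.nsys w k) (i : I) (d : K) (hd : d ≠ 0) :
    Rp cs R.nsys w (φ i (dd d hd) * k) := by
  have := (rp_of_mem (cs := cs) (hN := R.nsys) (S.mdd i d hd)).mul hk
  rwa [one_mul] at this

theorem shorter' (hp2 : Odd p) [Finite W] {w : W} {k : Y} (hk : Rp cs R.nsys w k)
    (hkk : k * k = 1) {i : I} (hi : rep cs h w (sr i) = -sr i) {y : K} (hy0 : y ≠ 0)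
    (e : ∀ a, k * φ i (uu a) * k⁻¹ = φ i (vv (y ^ 2 * a))) :
    ∃ g ∈ G1 cs h X, ∃ k', Rp cs R.nsys (cs.simple i * w) k' ∧ k' * k' = 1 ∧ g * k * g⁻¹ = k' := by
  obtain ⟨c, hc, e1, hθ⟩ := theta_of R S hk hkk hi
  have hcy : c = y ^ 2 := by
    have h1 := e 1
    rw [e1 1] at h1
    have h2 := S.ilo i _ _ h1
    rwa [mul_one, mul_one] at h2
  have h1 := square_case (φ i) k hc hθ hcy hy0
  have hcell : Cell R.nsys cs h X (cs.simple i * w) (φ i (vv y) * k * (φ i (vv y))⁻¹) := by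
    rw [h1]
    refine ⟨φ i (uu y⁻¹), ?_, φ i (ww (-y⁻¹) (neg_ne_zero.2 (inv_ne_zero hy0))) * k, ?_, 1, one_mem _, by group⟩
    · exact RGD.X_le_B (isRoot_sr cs h i) (sr_nonneg i) ((S.up i _).2 ⟨y⁻¹, rfl⟩)
    · rw [ww_eq_dd, map_mul, S.eww, mul_assoc]
      exact rp_dd' R S ((rp_simple cs R.nsys i).mul hk) i _ _
  obtain ⟨g, hg0, k', hk', hkk', hg⟩ := conj_N R hp2 hcell (by
    have : φ i (vv y) * k * (φ i (vv y))⁻¹ * (φ i (vv y) * k * (φ i (vv y))⁻¹) =
      φ i (vv y) * (k * k) * (φ i (vv y))⁻¹ := by group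
    rw [this, hkk]; group)
  refine ⟨g * φ i (vv y), mul_mem (U_le_G1 hg0) (phi_mem R S i _), k', hk', hkk', ?_⟩
  rw [← hg]; group

/-- the final shape of `k` -/
structure Fin' (w : W) (k : Y) : Prop where
  rp : Rp cs R.nsys w k
  sq : k * k = 1
  neg : ∀ i, rep cs h w (sr i) ≤ 0 → rep cs h w (sr i) = -sr i
  non : ∀ i, rep cs h w (sr i) = -sr i →
    ¬ ∃ y : K, y ≠ 0 ∧ ∀ a, k * φ i (uu a) * k⁻¹ = φ i (vv (y ^ 2 * a))
  orth : ∀ i j, rep cs h w (sr i) = -sr i → rep cs h w (sr j) = -sr j → i ≠ j → A i j = 0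

theorem step (hp2 : Odd p) [CharP K p] [Finite K]
    (hodd : ∀ i j, i ≠ j → A i j ≠ 0 → Odd (A i j) ∨ Odd (A j i)) [Finite W] (N : ℕ) :
    ∀ w : W, cs.length w = N → ∀ k : Y, Rp cs R.nsys w k → k * k = 1 →
      ∃ g ∈ G1 cs h X, ∃ w' k', Fin' (φ := φ) R w' k' ∧ g * k * g⁻¹ = k' := by
  classical
  have h20 : (2 : K) ≠ 0 := by
    intro h
    have h1 : ((2 : ℕ) : K) = 0 := by exact_mod_cast h
    rw [CharP.cast_eq_zero_iff K p] at h1
    have h3 : p ≠ 1 := CharP.char_ne_one K p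
    have h2 := (Nat.dvd_prime Nat.prime_two).1 h1
    rcases h2 with h2 | h2
    · exact h3 h2
    · rw [h2] at hp2
      exact (by decide : ¬ Odd 2) hp2
  induction N using Nat.strong_induction_on with
  | _ N ih =>
  intro w hwN k hk hkk
  have hww : w * w = 1 := by
    have h1 := hk.mul hk
    rw [hkk] at h1
    exact R.eq_one_of_mem_B h1 (one_mem _)
  by_cases h2 : ∃ i, rep cs h w (sr i) ≤ 0 ∧ rep cs h w (sr i) ≠ -sr i
  · obtain ⟨i, hi, hne⟩ := h2
    have h3 : Rp cs R.nsys (cs.simple i * w * cs.simple i) (n i * k * (n i)⁻¹) := by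
      have := ((rp_simple cs R.nsys i).mul hk).mul (rp_simple cs R.nsys i).inv
      rwa [cs.inv_simple] at this
    obtain ⟨g, hg0, w', k', hF, hg⟩ := ih _ (hwN ▸ length_conj_lt hww hi hne) _ rfl _ h3 (by
      have : n i * k * (n i)⁻¹ * (n i * k * (n i)⁻¹) = n i * (k * k) * (n i)⁻¹ := by group
      rw [this, hkk]; group)
    refine ⟨g * n i, mul_mem hg0 (n_mem R S i), w', k', hF, ?_⟩
    rw [← hg]; group
  push Not at h2
  have hlt : ∀ i, rep cs h w (sr i) = -sr i → cs.length (cs.simple i * w) < N := by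
    intro i hi
    rw [← hwN]
    refine length_simple_mul_lt hww (h := h) ?_
    rw [hi]
    exact neg_nonpos.2 (sr_nonneg i)
  -- the square case
  have hsq : ∀ k : Y, Rp cs R.nsys w k → k * k = 1 → ∀ i, rep cs h w (sr i) = -sr i →
      (∃ y : K, y ≠ 0 ∧ ∀ a, k * φ i (uu a) * k⁻¹ = φ i (vv (y ^ 2 * a))) →
      ∃ g ∈ G1 cs h X, ∃ w' k', Fin' (φ := φ) R w' k' ∧ g * k * g⁻¹ = k' := by
    rintro k hk hkk i hi ⟨y, hy0, e⟩
    obtain ⟨g, hg0, k', hk', hkk', hg⟩ := shorter' R S hp2 hk hkk hi hy0 e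
    obtain ⟨g', hg0', w'', k'', hF, hg'⟩ := ih _ (hlt i hi) _ rfl k' hk' hkk'
    refine ⟨g' * g, mul_mem hg0' hg0, w'', k'', hF, ?_⟩
    rw [← hg', ← hg]; group
  by_cases h3 : ∃ i, rep cs h w (sr i) = -sr i ∧
      ∃ y : K, y ≠ 0 ∧ ∀ a, k * φ i (uu a) * k⁻¹ = φ i (vv (y ^ 2 * a))
  · obtain ⟨i, hi, h⟩ := h3
    exact hsq k hk hkk i hi h
  by_cases h4 : ∃ i j, rep cs h w (sr i) = -sr i ∧ rep cs h w (sr j) = -sr j ∧ i ≠ j ∧ A i j ≠ 0
  · obtain ⟨i, j, hi, hj, hij, hA⟩ : ∃ i j, rep cs h w (sr i) = -sr i ∧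
        rep cs h w (sr j) = -sr j ∧ i ≠ j ∧ Odd (A i j) := by
      obtain ⟨i, j, hi, hj, hij, hA⟩ := h4
      rcases hodd i j hij hA with h5 | h5
      · exact ⟨i, j, hi, hj, hij, h5⟩
      · exact ⟨j, i, hj, hi, hij.symm, h5⟩
    obtain ⟨ci, hci, e1, hθ⟩ := theta_of R S hk hkk hi
    obtain ⟨cj, hcj, e2, -⟩ := theta_of R S hk hkk hj
    obtain ⟨g, hg⟩ := twist h20 (φ i) k hci hθ cj hcj
    have hk' := rp_dd' R S hk i cj hcj
    have hkk' : φ i (dd cj hcj) * k * (φ i (dd cj hcj) * k) = 1 := by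
      rw [← hg]
      have : φ i g * k * (φ i g)⁻¹ * (φ i g * k * (φ i g)⁻¹) = φ i g * (k * k) * (φ i g)⁻¹ := by group
      rw [this, hkk]; group
    obtain ⟨m, hm⟩ : ∃ m : ℤ, 1 - A i j = m + m := by
      obtain ⟨m, hm⟩ := hA
      exact ⟨-m, by omega⟩
    obtain ⟨g', hg0', w', k', hF, hg'⟩ := hsq _ hk' hkk' j hj ⟨cj ^ m, zpow_ne_zero _ hcj, fun a => by
      have h5 : φ i (dd cj hcj) * k * φ j (uu a) * (φ i (dd cj hcj) * k)⁻¹ =
          φ i (dd cj hcj) * (k * φ j (uu a) * k⁻¹) * (φ i (dd cj hcj))⁻¹ := by group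
      rw [h5, e2, S.tlo j _ (S.mdd i cj hcj), S.chd, ← mul_assoc]
      congr 3
      have h7 : (cj ^ A i j)⁻¹ * cj = cj ^ (1 - A i j) := by
        rw [← zpow_neg, ← zpow_add_one₀ hcj]
        congr 1
        ring
      rw [h7, hm, zpow_add₀ hcj, sq]⟩
    refine ⟨g' * φ i g, mul_mem hg0' (phi_mem R S i g), w', k', hF, ?_⟩
    have : g' * φ i g * k * (g' * φ i g)⁻¹ = g' * (φ i g * k * (φ i g)⁻¹) * g'⁻¹ := by group
    rw [this, hg]; exact hg'
  push Not at h4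
  refine ⟨1, one_mem _, w, k, ⟨hk, hkk, h2, fun i hi hy => h3 ⟨i, hi, hy⟩, fun i j hi hj hij => h4 i j hi hj hij⟩, ?_⟩
  group

/-! ### products of orthogonal nodes -/

theorem phi_comm {i j : I} (hij : i ≠ j) (hA : A i j = 0) (g g' : SL(2, K)) :
    φ i g * φ j g' = φ j g' * φ i g := by
  have key : ∀ g, ∀ x : I → ℤ, (x = sr i ∨ x = -sr i) → ∀ a ∈ X x, a * φ j g = φ j g * a := by
    intro g x hx a ha
    have h3 : Subgroup.comap (φ j) (Subgroup.centralizer {a}) = ⊤ := by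
      refine Cfsg.Agent.OddHalf.NI.Mult.mem_of_up_lo (fun b => ?_) (fun b => ?_)
      · rw [Subgroup.mem_comap, Subgroup.mem_centralizer_iff]
        intro z hz
        rw [Set.mem_singleton_iff] at hz
        subst hz
        exact root_comm R hij hA hx (Or.inl rfl) ha ((S.up j _).2 ⟨b, rfl⟩)
      · rw [Subgroup.mem_comap, Subgroup.mem_centralizer_iff]
        intro z hz
        rw [Set.mem_singleton_iff] at hz
        subst hz
        exact root_comm R hij hA hx (Or.inr rfl) ha ((S.lo j _).2 ⟨b, rfl⟩)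
    have h4 : g ∈ Subgroup.comap (φ j) (Subgroup.centralizer {a}) := by
      rw [h3]; exact Subgroup.mem_top g
    rw [Subgroup.mem_comap, Subgroup.mem_centralizer_iff] at h4
    exact h4 a rfl
  have h3 : Subgroup.comap (φ i) (Subgroup.centralizer {φ j g'}) = ⊤ := by
    refine Cfsg.Agent.OddHalf.NI.Mult.mem_of_up_lo (fun b => ?_) (fun b => ?_)
    · rw [Subgroup.mem_comap, Subgroup.mem_centralizer_iff]
      intro z hz
      rw [Set.mem_singleton_iff] at hz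
      subst hz
      exact (key g' _ (Or.inl rfl) _ ((S.up i _).2 ⟨b, rfl⟩)).symm
    · rw [Subgroup.mem_comap, Subgroup.mem_centralizer_iff]
      intro z hz
      rw [Set.mem_singleton_iff] at hz
      subst hz
      exact (key g' _ (Or.inr rfl) _ ((S.lo i _).2 ⟨b, rfl⟩)).symm
  have h4 : g ∈ Subgroup.comap (φ i) (Subgroup.centralizer {φ j g'}) := by
    rw [h3]; exact Subgroup.mem_top g
  rw [Subgroup.mem_comap, Subgroup.mem_centralizer_iff] at h4
  exact (h4 _ rfl).symm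

omit S in
/-- pairwise orthogonal nodes -/
def Orth (A : I → I → ℤ) (L : List I) : Prop := ∀ i ∈ L, ∀ j ∈ L, i ≠ j → A i j = 0

omit S in
theorem Orth.tail {A : I → I → ℤ} {i : I} {L : List I} (h : Orth A (i :: L)) : Orth A L :=
  fun a ha b hb => h a (List.mem_cons_of_mem _ ha) b (List.mem_cons_of_mem _ hb)

variable {L : List I}

theorem k0_comm {i : I} (hi : i ∉ L) (hA : ∀ j ∈ L, A i j = 0) (g : SL(2, K)) :
    φ i g * (L.map n).prod = (L.map n).prod * φ i g := by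
  induction L with
  | nil => rw [List.map_nil, List.prod_nil, one_mul, mul_one]
  | cons j L ih =>
    rw [List.mem_cons, not_or] at hi
    have h1 := phi_comm R S hi.1 (hA j List.mem_cons_self) g (ww 1 one_ne_zero)
    rw [S.eww] at h1
    rw [List.map_cons, List.prod_cons, ← mul_assoc, h1, mul_assoc, ih hi.2 fun k hk => hA k (List.mem_cons_of_mem _ hk),
      mul_assoc]

theorem n_conj (i : I) (a : K) : n i * φ i (uu a) * (n i)⁻¹ = φ i (vv (-a)) := by
  rw [← S.eww, ← map_inv, ← map_mul, ← map_mul]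
  congr 1
  rw [mul_inv_eq_iff_eq_mul]
  apply Subtype.ext
  show !![(0 : K), 1; -1⁻¹, 0] * !![1, a; 0, 1] = !![1, 0; -a, 1] * !![(0 : K), 1; -1⁻¹, 0]
  rw [Matrix.mul_fin_two, Matrix.mul_fin_two]
  congr 1
  ext i j
  fin_cases i <;> fin_cases j <;> simp

theorem k0_conj (hnd : L.Nodup) (hA : Orth A L) {i : I} (hi : i ∈ L) (a : K) :
    (L.map n).prod * φ i (uu a) * ((L.map n).prod)⁻¹ = φ i (vv (-a)) := by
  induction L with
  | nil => simp at hi
  | cons j L ih =>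
    rw [List.nodup_cons] at hnd
    have h0 : ∀ k ∈ L, k ≠ j := fun k hk h => hnd.1 (h ▸ hk)
    rw [List.map_cons, List.prod_cons]
    by_cases hij : i = j
    · subst hij
      have h1 := k0_comm R S hnd.1 (fun k hk => hA i List.mem_cons_self k (List.mem_cons_of_mem _ hk)
        (h0 k hk).symm) (uu a)
      have h2 : n i * (L.map n).prod * φ i (uu a) * (n i * (L.map n).prod)⁻¹ =
          n i * ((L.map n).prod * φ i (uu a) * ((L.map n).prod)⁻¹) * (n i)⁻¹ := by group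
      rw [h2, ← h1, mul_inv_cancel_right, n_conj R S]
    · have hiL : i ∈ L := by
        rcases List.mem_cons.1 hi with h1 | h1
        · exact absurd h1 hij
        · exact h1
      have h2 : n j * (L.map n).prod * φ i (uu a) * (n j * (L.map n).prod)⁻¹ =
          n j * ((L.map n).prod * φ i (uu a) * ((L.map n).prod)⁻¹) * (n j)⁻¹ := by group
      rw [h2, ih hnd.2 hA.tail hiL]
      have h3 := phi_comm R S (Ne.symm hij) (hA j List.mem_cons_self i hi (Ne.symm hij))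
        (ww 1 one_ne_zero) (vv (-a))
      rw [S.eww] at h3
      rw [h3, mul_inv_cancel_right]

/-- `n_i t n_i⁻¹` -/
theorem n_tor (hTc : ∀ a ∈ T, ∀ b ∈ T, a * b = b * a) (i : I) {t : Y} (ht : t ∈ T) :
    n i * t * (n i)⁻¹ = t * φ i (dd (χ i t)⁻¹ (inv_ne_zero (S.ne i t ht))) := by
  have h0 := S.ne i t ht
  have e3 : n i = φ i (uu 1) * (φ i (vv (-1)) * φ i (uu 1)) := by
    rw [← S.eww, ww_eq, map_mul, map_mul, inv_one]
  have e1 : t * n i * t⁻¹ = φ i (dd (χ i t) h0) * n i := by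
    have e2 : t * n i * t⁻¹ = (t * φ i (uu 1) * t⁻¹) * ((t * φ i (vv (-1)) * t⁻¹) * (t * φ i (uu 1) * t⁻¹)) := by
      nth_rewrite 1 [e3]; group
    rw [e2, S.tup i t ht, S.tlo i t ht, ← S.eww, ← map_mul, ← map_mul, ← map_mul, ← ww_eq_dd, ww_eq]
    congr 4
    · rw [mul_one]
    · rw [mul_neg, mul_one]
    · rw [mul_one]
  have e2 : n i * t * (n i)⁻¹ = (φ i (dd (χ i t) h0))⁻¹ * t := by
    have : n i * t * (n i)⁻¹ = (t * n i * t⁻¹ * (n i)⁻¹)⁻¹ * t := by group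
    rw [this, e1]; group
  have e4 : (dd (χ i t) h0)⁻¹ = (dd (χ i t)⁻¹ (inv_ne_zero h0) : SL(2, K)) := by
    rw [inv_eq_iff_mul_eq_one]
    apply Subtype.ext
    show !![χ i t, 0; 0, (χ i t)⁻¹] * !![(χ i t)⁻¹, 0; 0, (χ i t)⁻¹⁻¹] = (1 : Matrix (Fin 2) (Fin 2) K)
    rw [Matrix.mul_fin_two, Matrix.one_fin_two]
    congr 1
    ext i j
    fin_cases i <;> fin_cases j <;> simp [h0]
  rw [e2, ← map_inv, e4]
  exact hTc _ (S.mdd i _ _) _ ht

theorem n_sq (i : I) : n i * n i = φ i (dd (-1) (neg_ne_zero.2 one_ne_zero)) := by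
  rw [← S.eww, ← map_mul, ww_mul_ww]

theorem ht_mem (i : I) (a : Kˣ) : ht φ i a ∈ T := S.mdd i _ _

theorem prod_ht_mem (L : List I) (c : I → Kˣ) : (L.map fun i => ht φ i (c i)).prod ∈ T := by
  refine list_prod_mem fun x hx => ?_
  rw [List.mem_map] at hx
  obtain ⟨i, -, rfl⟩ := hx
  exact ht_mem R S i _

/-- `χ i` is multiplicative on the torus -/
theorem chi_mul (i : I) {s t : Y} (hs : s ∈ T) (ht : t ∈ T) : χ i (s * t) = χ i s * χ i t := by
  have h1 := S.tup i (s * t) (mul_mem hs ht) 1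
  have h2 : s * t * φ i (uu 1) * (s * t)⁻¹ = s * (t * φ i (uu 1) * t⁻¹) * s⁻¹ := by group
  rw [h2, S.tup i t ht, S.tup i s hs] at h1
  have h3 := S.iup i _ _ h1
  rw [mul_one, mul_one] at h3
  exact h3.symm

/-- `k₀ t k₀⁻¹` -/
theorem k0_tor (hTc : ∀ a ∈ T, ∀ b ∈ T, a * b = b * a) (hnd : L.Nodup) (hA : Orth A L) {t : Y} (ht0 : t ∈ T)
    (c : I → Kˣ) (hc : ∀ i ∈ L, ((c i : Kˣ) : K) = (χ i t)⁻¹) :
    (L.map n).prod * t * ((L.map n).prod)⁻¹ = t * (L.map fun i => ht φ i (c i)).prod := by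
  induction L with
  | nil => simp
  | cons i L ih =>
    rw [List.nodup_cons] at hnd
    have h0 : ∀ k ∈ L, k ≠ i := fun k hk h => hnd.1 (h ▸ hk)
    rw [List.map_cons, List.prod_cons, List.map_cons, List.prod_cons]
    have h2 : n i * (L.map n).prod * t * (n i * (L.map n).prod)⁻¹ =
        n i * ((L.map n).prod * t * ((L.map n).prod)⁻¹) * (n i)⁻¹ := by group
    have hm := prod_ht_mem R S L c
    have hchi : χ i (t * (L.map fun i => ht φ i (c i)).prod) = χ i t := by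
      have key : ∀ L' : List I, (∀ k ∈ L', A k i = 0) → χ i ((L'.map fun i => ht φ i (c i)).prod) = 1 := by
        intro L' hL'
        induction L' with
        | nil =>
          rw [List.map_nil, List.prod_nil]
          have h1 := S.tup i 1 (one_mem _) 1
          rw [one_mul, inv_one, mul_one, mul_one] at h1
          exact (S.iup i _ _ h1).symm
        | cons k L' ih' =>
          rw [List.map_cons, List.prod_cons, chi_mul R S i (ht_mem R S k _) (prod_ht_mem R S L' c),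
            ih' fun j hj => hL' j (List.mem_cons_of_mem _ hj), mul_one]
          unfold ht
          rw [S.chd, hL' k List.mem_cons_self, zpow_zero]
      rw [chi_mul R S i ht0 hm, key L (fun k hk => hA k (List.mem_cons_of_mem _ hk) i List.mem_cons_self (h0 k hk)),
        mul_one]
    rw [h2, ih hnd.2 hA.tail fun k hk => hc k (List.mem_cons_of_mem _ hk), n_tor R S hTc i (mul_mem ht0 hm)]
    have e : φ i (dd (χ i (t * (L.map fun i => ht φ i (c i)).prod))⁻¹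
        (inv_ne_zero (S.ne i _ (mul_mem ht0 hm)))) = ht φ i (c i) := by
      unfold ht
      congr 1
      apply Subtype.ext
      show !![(χ i (t * (L.map fun i => ht φ i (c i)).prod))⁻¹, 0; 0, (χ i (t * (L.map fun i => ht φ i (c i)).prod))⁻¹⁻¹] =
        !![(c i : K), 0; 0, (c i : K)⁻¹]
      rw [hchi, hc i List.mem_cons_self]
    rw [e, mul_assoc, hTc _ hm _ (ht_mem R S i _)]

/-- `k₀²` -/
theorem k0_sq (hnd : L.Nodup) (hA : Orth A L) :
    (L.map n).prod * (L.map n).prod = (L.map fun i => ht φ i (-1)).prod := by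
  induction L with
  | nil => simp
  | cons i L ih =>
    rw [List.nodup_cons] at hnd
    have h0 : ∀ k ∈ L, k ≠ i := fun k hk h => hnd.1 (h ▸ hk)
    have h1 := k0_comm R S hnd.1 (fun k hk => hA i List.mem_cons_self k (List.mem_cons_of_mem _ hk)
      (h0 k hk).symm) (ww (1 : K) one_ne_zero)
    rw [S.eww] at h1
    rw [List.map_cons, List.prod_cons, List.map_cons, List.prod_cons]
    have h2 : n i * (L.map n).prod * (n i * (L.map n).prod) = n i * n i * ((L.map n).prod * (L.map n).prod) := by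
      calc _ = n i * ((L.map n).prod * n i) * (L.map n).prod := by group
        _ = _ := by rw [← h1]; group
    rw [h2, ih hnd.2 hA.tail, n_sq R S]
    congr 1

theorem prod_ht_mul (hTc : ∀ a ∈ T, ∀ b ∈ T, a * b = b * a) (L : List I) (c d : I → Kˣ) :
    (L.map fun i => ht φ i (c i)).prod * (L.map fun i => ht φ i (d i)).prod =
      (L.map fun i => ht φ i (c i * d i)).prod := by
  induction L with
  | nil => simp
  | cons i L ih =>
    rw [List.map_cons, List.prod_cons, List.map_cons, List.prod_cons, List.map_cons, List.prod_cons, ← ih, ht_mul,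
      mul_assoc, mul_assoc, ← mul_assoc _ (ht φ i (d i)), hTc _ (prod_ht_mem R S L c) _ (ht_mem R S i _), mul_assoc]

/-- **TOR lemma, abstract form** -/
theorem tor (hp2 : Odd p) [CharP K p] [Finite K] (hTc : ∀ a ∈ T, ∀ b ∈ T, a * b = b * a)
    (hodd : ∀ i j, i ≠ j → A i j ≠ 0 → Odd (A i j) ∨ Odd (A j i)) [Finite W] {g : Y} (hg : g ∈ GG cs h T X)
    (h2 : g * g = 1) :
    ∃ r ∈ G1 cs h X, ∃ θ ∈ T, ∃ (L : List I) (c : I → Kˣ), L.Nodup ∧ Orth A L ∧
      r * g * r⁻¹ = θ * (L.map n).prod ∧ (∀ i ∈ L, ((c i : Kˣ) : K) = -(χ i θ)⁻¹ ∧ ¬ IsSquare ((c i : Kˣ) : K)) ∧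
      θ * θ * (L.map fun i => ht φ i (c i)).prod = 1 := by
  classical
  obtain ⟨w, hw⟩ := (mem_GG R).1 hg
  obtain ⟨r, hr, k, hk, hkk, hrk⟩ := conj_N R hp2 hw h2
  obtain ⟨s, hs, w', k', hF, hsk⟩ := step R S hp2 hodd _ w rfl k hk hkk
  have hww : w' * w' = 1 := by
    have h1 := hF.rp.mul hF.rp
    rw [hF.sq] at h1
    exact R.eq_one_of_mem_B h1 (one_mem _)
  set L : List I := (Finset.univ.filter fun i => rep cs h w' (sr i) = -sr i).toList with hL
  have hmem : ∀ i, i ∈ L ↔ rep cs h w' (sr i) = -sr i := by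
    intro i
    rw [hL, Finset.mem_toList, Finset.mem_filter]
    exact ⟨fun h => h.2, fun h => ⟨Finset.mem_univ i, h⟩⟩
  have hnd : L.Nodup := Finset.nodup_toList _
  have horth : ∀ i ∈ L, ∀ j ∈ L, i ≠ j → A i j = 0 := by
    intro i hi j hj hij
    exact hF.orth i j ((hmem i).1 hi) ((hmem j).1 hj) hij
  have hwL := eq_wordProd (h := h) hww L hnd hmem (fun i hi => (hmem i).2 (hF.neg i hi)) horth
  have hwL' : w' = cs.wordProd L.reverse := by
    rw [cs.wordProd_reverse]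
    exact eq_inv_of_mul_eq_one_left hwL
  have hnd' : L.reverse.Nodup := List.nodup_reverse.2 hnd
  have horth' : Orth A L.reverse := fun i hi j hj hij =>
    horth i (List.mem_reverse.1 hi) j (List.mem_reverse.1 hj) hij
  have hrp : ∀ L' : List I, Rp cs R.nsys (cs.wordProd L') ((L'.map n).prod) := by
    intro L'
    induction L' with
    | nil => rw [wordProd_nil]; exact rp_one
    | cons i L ih => rw [wordProd_cons, List.map_cons, List.prod_cons]; exact (rp_simple cs _ i).mul ih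
  have hθ : k' * ((L.reverse.map n).prod)⁻¹ ∈ T := by
    have h5 := hF.rp.mul (hrp L.reverse).inv
    rw [← hwL', mul_inv_cancel] at h5
    exact h5.mem_of_one
  set θ := k' * ((L.reverse.map n).prod)⁻¹ with hθd
  have hkθ : k' = θ * (L.reverse.map n).prod := by rw [hθd]; group
  let c : I → Kˣ := fun i => Units.mk0 (-(χ i θ)⁻¹) (neg_ne_zero.2 (inv_ne_zero (S.ne i θ hθ)))
  have hc : ∀ i, ((c i : Kˣ) : K) = -(χ i θ)⁻¹ := fun i => rfl
  refine ⟨s * r, mul_mem hs (U_le_G1 hr), θ, hθ, L.reverse, c, hnd', horth', ?_, fun i hi => ⟨hc i, ?_⟩, ?_⟩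
  · rw [← hkθ, ← hsk, ← hrk]; group
  · rintro ⟨y, hy⟩
    have hne : -(χ i θ)⁻¹ ≠ 0 := neg_ne_zero.2 (inv_ne_zero (S.ne i θ hθ))
    refine hF.non i ((hmem i).1 (List.mem_reverse.1 hi)) ⟨y, ?_, fun a => ?_⟩
    · rintro rfl
      rw [hc, mul_zero] at hy
      exact hne hy
    · have h3 : k' * φ i (uu a) * k'⁻¹ =
          θ * ((L.reverse.map n).prod * φ i (uu a) * ((L.reverse.map n).prod)⁻¹) * θ⁻¹ := by
        rw [hkθ]; group
      rw [h3, k0_conj R S hnd' horth' hi, S.tlo i θ hθ, sq, ← hy, hc]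
      congr 2
      ring
  · have h1 : k' * k' = θ * ((L.reverse.map n).prod * θ * ((L.reverse.map n).prod)⁻¹) *
        ((L.reverse.map n).prod * (L.reverse.map n).prod) := by rw [hkθ]; group
    rw [hF.sq] at h1
    let d : I → Kˣ := fun i => Units.mk0 ((χ i θ)⁻¹) (inv_ne_zero (S.ne i θ hθ))
    rw [k0_tor R S hTc hnd' horth' hθ d (fun i _ => rfl), k0_sq R S hnd' horth'] at h1
    rw [h1]
    have h5 : (fun i => ht φ i (c i)) = fun i => ht φ i (d i * -1) := by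
      funext i
      congr 1
      apply Units.ext
      rw [hc, Units.val_mul, Units.val_neg, Units.val_one, mul_neg_one]
      rfl
    rw [h5, ← prod_ht_mul R S hTc L.reverse d (fun _ => -1)]
    group

end

end Cfsg.Agent.H857.KKL.TorAbs
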