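import Cfsg.Agent.H857.KKL.TorSub
import Cfsg.Agent.H557.CentChev

/-!
S4546, X3: **the TOR lemma for the Chevalley groups** `D.group K`, `K` a finite field of odd order (`tor_chev`), and the
parity condition for torus elements in the image of `th` (`parity`).
-/

set_option autoImplicit false
set_option linter.unusedSectionVars false

namespace Cfsg.Agent.H857.KKL.TorChev

open CoxeterSystem Cfsg.Agent.ChevalleyStructure.CoxeterGeom Cfsg.Agent.Tits.Roots Cfsg.Agent.Tits.Core
  Cfsg.Agent.Tits.RootComb Cfsg.Agent.Nodes.Comb Cfsg.Agent.Nodes.Reps Cfsg.Agent.Nodes.BNOf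
  Cfsg.Agent.Nodes.RGDLib Cfsg.Agent.Nodes.Bruhat Cfsg.Agent.Nodes.NormalForm Cfsg.Agent.Nodes.OppDec
open Cfsg.Lie Cfsg.Agent.ChevalleyStructure Cfsg.Agent.ChevalleyStructure.Elts
  Cfsg.Agent.ChevalleyStructure.NPerm Cfsg.Agent.ChevalleyStructure.CoxeterGeomTypes Cfsg.Agent.Nodes.RGDChev
  Cfsg.Agent.ChevalleyStructure.RootVec
  Cfsg.Agent.KFacts.RgdField Cfsg.Agent.KFacts.RgdChevCoord Cfsg.Agent.OddHalf.NI.ModelChev
  Cfsg.Agent.H557.InvForm Cfsg.Agent.H557.Toral
open Cfsg.Agent.H557.LrRho (actW rep_word)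
open Cfsg.Agent.FixBN.FieldRGD (uu vv dd ww)
open Cfsg.Agent.H857.KKL.TorAbs (ht ht_mul)
open Cfsg.Agent.H857.KKL.TorSub
open scoped MatrixGroups commutatorElement

universe u

section

variable {D : ChevalleyDatum} {l : ℕ} {M : CoxeterMatrix (Fin l)} (hp : IsType D l M) {K : Type u} [Field K]
  {W : Type*} [Group W] (cs : CoxeterSystem M W)

/-- the integral commutator relations -/
theorem commI : CommI cs hp.isCartan (XX D l K) := by
  intro x y hx hy hxy hxy' a ha b hb S hS
  obtain ⟨s, hs, rfl⟩ := (isRoot_iff hp cs x).1 hx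
  obtain ⟨r, hr, rfl⟩ := (isRoot_iff hp cs y).1 hy
  have ha' : (a : GL D.Idx K) ∈ XV D l K (vec D l s) := ha
  have hb' : (b : GL D.Idx K) ∈ XV D l K (vec D l r) := hb
  rw [XV_vec hp K hs, mem_rootSubgroup_iff hp.inList] at ha'
  rw [XV_vec hp K hr, mem_rootSubgroup_iff hp.inList] at hb'
  obtain ⟨u, hu⟩ := ha'
  obtain ⟨t, ht⟩ := hb'
  have hne : s ≠ r := fun h => hxy (by rw [h])
  have hne' : s ≠ D.neg r := fun h => hxy' (by rw [h, vec_neg hp hr])
  have e : ⁅xG hp.inList s u, xG hp.inList r t⁆ = wordG hp.inList (D.commWord K r s (-t) (-u)) := by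
    rw [← comm_xG hp hr hs hne hne', xG_inv, xG_inv, _root_.neg_neg, _root_.neg_neg]
  have key : ((⁅a, b⁆ : ↥(D.group K)) : GL D.Idx K) ∈ S.map (D.group K).subtype := by
    have e' : ((⁅a, b⁆ : ↥(D.group K)) : GL D.Idx K) = ⁅xG hp.inList s u, xG hp.inList r t⁆ := by
      rw [← hu, ← ht]; rfl
    rw [e', e]
    refine wordG_mem hp _ _ ?_
    intro c hc
    have hc' : c ∈ (D.commTerms r s).map fun c => (c.1, (c.2.1 : K) * (- -t) ^ c.2.2.1 * (-u) ^ c.2.2.2) := hc
    rw [List.mem_map] at hc'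
    obtain ⟨⟨v, C, i, j⟩, hv, rfl⟩ := hc'
    obtain ⟨hv1, -, -, hi, hj, hvec⟩ := commTerms_rt hp.checked hv
    have he : ((j : ℤ) • vec D l s + (i : ℤ) • vec D l r) = vec D l v := by
      funext k
      rw [vec_apply, hvec, Pi.add_apply, Pi.smul_apply, Pi.smul_apply, smul_eq_mul, smul_eq_mul, vec_apply, vec_apply,
        add_comm]
    have h1 := hS (j : ℤ) (i : ℤ) (by exact_mod_cast hj) (by exact_mod_cast hi) (by
      rw [he]; exact isRoot_vec hp cs hv1)
    rw [he] at h1
    have h2 : xG hp.inList v ((C : K) * (- -t) ^ i * (-u) ^ j) ∈ XV D l K (vec D l v) := by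
      rw [XV_vec hp K hv1]
      exact xG_mem_rootSubgroup hp.inList v _
    exact ⟨⟨_, XV_le_group hp _ h2⟩, h1 h2, rfl⟩
  obtain ⟨y, hy, e2⟩ := key
  have : y = ⁅a, b⁆ := Subtype.ext e2
  rw [← this]
  exact hy

theorem nod : Nod cs hp.isCartan (TT D K) (nc hp K) (xc hp) (ch hp) (sl hp) where
  hu i a := sl_uu hp i a
  hv i a := sl_vv hp i a
  hw i := sl_ww hp i
  hd i c hc0 := by rw [sl_dd]; exact hc_mem hp i hc0
  hch i r hr c hc0 := by
    obtain ⟨k, hk, rfl⟩ := (isRoot_iff hp cs r).1 hr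
    rw [sl_dd, ch_hc hp i hc0 hk, pairing_vec hp i hk]

variable {l' : ℕ} (B : Bas l l')

/-- `ι` : the embedding of the root lattice of the subsystem -/
abbrev io : (Fin l' → ℤ) → (Fin l → ℤ) := B.io (cartanOf D l)

/-- `⟨X b : b ∈ Φ'⟩` -/
noncomputable abbrev Lg (D : ChevalleyDatum) (K : Type u) [Field K] (B : Bas l l') : Subgroup ↥(D.group K) :=
  G1 B.cs B.cart (fun v => XX D l K (B.io (cartanOf D l) v))

/-- `⟨T, X b : b ∈ Φ'⟩` -/
noncomputable abbrev Rg (D : ChevalleyDatum) (K : Type u) [Field K] (B : Bas l l') : Subgroup ↥(D.group K) :=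
  GG B.cs B.cart (TT D K) (fun v => XX D l K (B.io (cartanOf D l) v))

/-- the `i`-th simple root of the subsystem -/
abbrev br (D : ChevalleyDatum) (B : Bas l l') (i : Fin l') : Fin l → ℤ := B.b (cartanOf D l) i

/-- the representative of the reflection in the `i`-th simple root of the subsystem -/
noncomputable abbrev ni (K : Type u) [Field K] (i : Fin l') : ↥(D.group K) := B.nn (nc hp K) i

/-- the torus element `b_i^∨(c)` of the `i`-th simple root of the subsystem -/
noncomputable abbrev hi (i : Fin l') (c : Kˣ) : ↥(D.group K) := ht (B.ph (nc hp K) (sl hp)) i c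

variable {B}

/-- **TOR lemma**: an involution `g` of `R = ⟨T, X b : b ∈ Φ'⟩` is conjugate by an element of `⟨X b : b ∈ Φ'⟩` to
`θ n_L`, `θ ∈ T`, `L` a list of orthogonal simple roots of `Φ'`, with nonsquare invariants `c_i = -b_i(θ)⁻¹`, and
`θ² ∏ b_i^∨(c_i) = 1`. -/
theorem tor_chev [Finite K] (p : ℕ) [Fact p.Prime] [CharP K p] (H : Good B cs hp.isCartan) (hp2 : Odd p)
    (hodd : ∀ i j, i ≠ j → B.A i j ≠ 0 → Odd (B.A i j) ∨ Odd (B.A j i)) {g : ↥(D.group K)}
    (hg : g ∈ Rg D K B) (h2 : g * g = 1) :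
    ∃ r ∈ Lg D K B, ∃ θ ∈ TT D K, ∃ (L : List (Fin l')) (c : Fin l' → Kˣ), L.Nodup ∧
      TorAbs.Orth B.A L ∧ r * g * r⁻¹ = θ * (L.map (ni hp B K)).prod ∧
      (∀ i ∈ L, ((c i : Kˣ) : K) = -(ch hp (br D B i) θ)⁻¹ ∧ ¬ IsSquare ((c i : Kˣ) : K)) ∧
      θ * θ * (L.map fun i => hi hp B i (c i)).prod = 1 := by
  have : Finite W := finite_W hp cs
  exact torS (rgd hp cs p) H (commI hp cs) (coords hp cs p) (nod hp cs) hp2
    (H557.CentChev.comm_mem_TT hp) hodd hg h2

/-! ### coroots -/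

/-- the action of a word on the coroot lattice -/
def coW {l : ℕ} (A : Fin l → Fin l → ℤ) (ω : List (Fin l)) (m : Fin l → ℤ) : Fin l → ℤ :=
  ω.foldr (fun j m => m - (∑ k, m k * A k j) • sr j) m

/-- the coroot of the `i`-th simple root of the subsystem, in terms of the simple coroots -/
def Bas.co (B : Bas l l') (A : Fin l → Fin l → ℤ) (i : Fin l') : Fin l → ℤ := coW A (B.ω i) (sr (B.a i))

theorem prod_zpow_sum {G ι : Type*} [CommGroup G] (a : G) (S : Finset ι) (f : ι → ℤ) :
    ∏ i ∈ S, a ^ f i = a ^ ∑ i ∈ S, f i := by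
  classical
  induction S using Finset.induction_on with
  | empty => simp
  | insert i S hi ih => rw [Finset.prod_insert hi, Finset.sum_insert hi, ih, zpow_add]

theorem conj_th (ω : List (Fin l)) (m : Fin l → ℤ) (c : Kˣ) :
    (ω.map (nc hp K)).prod * th hp (fun k => c ^ m k) * ((ω.map (nc hp K)).prod)⁻¹ =
      th hp (fun k => c ^ coW (cartanOf D l) ω m k) := by
  induction ω with
  | nil => simp [coW]
  | cons j ω ih =>
    rw [List.map_cons, List.prod_cons]
    have h1 : nc hp K j * (ω.map (nc hp K)).prod * th hp (fun k => c ^ m k) *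
        (nc hp K j * (ω.map (nc hp K)).prod)⁻¹ = nc hp K j * ((ω.map (nc hp K)).prod * th hp (fun k => c ^ m k) *
        ((ω.map (nc hp K)).prod)⁻¹) * (nc hp K j)⁻¹ := by group
    rw [h1, ih, nc_th]
    congr 1
    set m' := coW (cartanOf D l) ω m with hm'
    have h2 : chi (cartanOf D l) j (fun k => c ^ m' k) = c ^ ∑ k, m' k * cartanOf D l k j := by
      unfold chi
      rw [← prod_zpow_sum]
      exact Finset.prod_congr rfl fun k _ => by rw [← zpow_mul]
    rw [h2]
    funext k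
    show c ^ m' k * _ = c ^ (m' k - (∑ k, m' k * cartanOf D l k j) • (sr j : Fin l → ℤ) k)
    by_cases hk : k = j
    · subst hk
      rw [Pi.mulSingle_eq_same, sr_self, smul_eq_mul, mul_one, zpow_sub]
    · rw [Pi.mulSingle_eq_of_ne hk, sr_ne hk, smul_zero, sub_zero, mul_one]

theorem hi_eq (i : Fin l') (c : Kˣ) : hi hp B i c = th hp (fun k => c ^ Bas.co B (cartanOf D l) i k) := by
  have h1 : hi hp B i c = ((B.ω i).map (nc hp K)).prod * th hp (fun k => c ^ (sr (B.a i) : Fin l → ℤ) k) *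
      (((B.ω i).map (nc hp K)).prod)⁻¹ := by
    show ((B.ω i).map (nc hp K)).prod * sl hp (B.a i) (dd (c : K) c.ne_zero) * (((B.ω i).map (nc hp K)).prod)⁻¹ = _
    rw [← th_mulSingle]
    congr 3
    funext k
    by_cases hk : k = B.a i
    · subst hk
      rw [Pi.mulSingle_eq_same, sr_self, zpow_one]
    · rw [Pi.mulSingle_eq_of_ne hk, sr_ne hk, zpow_zero]
  rw [h1, conj_th]
  rfl

theorem prod_hi (L : List (Fin l')) (c : Fin l' → Kˣ) :
    (L.map fun i => hi hp B i (c i)).prod =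
      th hp (fun k => (L.map fun i => c i ^ Bas.co B (cartanOf D l) i k).prod) := by
  induction L with
  | nil => simp only [List.map_nil, List.prod_nil]; exact (map_one (th hp)).symm
  | cons i L ih =>
    simp only [List.map_cons, List.prod_cons]
    rw [ih, hi_eq, ← map_mul]
    rfl

/-- the parity of the sum of the coroots -/
theorem parity [Finite K] (h2 : (2 : K) ≠ 0) (hk : ∀ t : Fin l → Kˣ, th hp t = 1 → ∀ k, IsSquare (t k))
    {b : Fin l → Kˣ} {L : List (Fin l')} {c : Fin l' → Kˣ} (hc : ∀ i ∈ L, ¬ IsSquare ((c i : Kˣ) : K))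
    (h1 : th hp b * th hp b * (L.map fun i => hi hp B i (c i)).prod = 1) (k : Fin l) :
    Even ((L.map fun i => Bas.co B (cartanOf D l) i k).sum) := by
  classical
  have : Fintype K := Fintype.ofFinite K
  rw [prod_hi, ← map_mul, ← map_mul] at h1
  obtain ⟨y, hy⟩ := hk _ h1 k
  let ε : Kˣ →* ℤˣ := (quadraticChar K).toUnitHom
  have hch : ringChar K ≠ 2 := by
    intro h
    apply h2
    have := CharP.cast_eq_zero K (ringChar K)
    rw [h] at this
    exact_mod_cast this
  have hε : ∀ u : Kˣ, ¬ IsSquare ((u : Kˣ) : K) → ε u = -1 := by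
    intro u hu
    apply Units.ext
    rw [MulChar.coe_toUnitHom, Units.val_neg, Units.val_one]
    exact quadraticChar_neg_one_iff_not_isSquare.2 hu
  have hsq : ∀ u : Kˣ, ε (u * u) = 1 := by
    intro u
    rw [map_mul]
    rcases Int.units_eq_one_or (ε u) with h | h <;> rw [h] <;> rfl
  have key : ∀ L : List (Fin l'), (∀ i ∈ L, ¬ IsSquare ((c i : Kˣ) : K)) →
      ε ((L.map fun i => c i ^ Bas.co B (cartanOf D l) i k).prod) =
        (-1) ^ ((L.map fun i => Bas.co B (cartanOf D l) i k).sum) := by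
    intro L hL
    induction L with
    | nil => simp
    | cons i L ih =>
      simp only [List.map_cons, List.prod_cons, List.sum_cons]
      rw [map_mul, ih fun j hj => hL j (List.mem_cons_of_mem _ hj), map_zpow, hε _ (hL i List.mem_cons_self), zpow_add]
  have h3 : ε (b k * b k * (L.map fun i => c i ^ Bas.co B (cartanOf D l) i k).prod) = 1 := by
    have : b k * b k * (L.map fun i => c i ^ Bas.co B (cartanOf D l) i k).prod = y * y := hy
    rw [this, hsq]
  rw [map_mul, hsq, one_mul, key L hc] at h3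
  by_contra hodd
  rw [Int.not_even_iff_odd] at hodd
  rw [hodd.neg_one_zpow] at h3
  exact absurd h3 (by decide)

end

end Cfsg.Agent.H857.KKL.TorChev
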