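import Cfsg.Agent.H857.KKL.TorAbs
import Cfsg.Agent.H557.LrRho

/-!
S4546, X3 (TOR lemma): root group data of a subsystem.

* `Bas l l'` : a basis of a subsystem, the `i`-th simple root is `w (α_(a i))`, `w` the product of the word `ω i`;
* `Good` : the facts to be checked; `rgdS`, `coordsS`, `slsS` : the root group data of the subsystem.
-/

set_option autoImplicit false
set_option linter.unusedSectionVars false

namespace Cfsg.Agent.H857.KKL.TorSub

open CoxeterSystem Cfsg.Agent.ChevalleyStructure.CoxeterGeom Cfsg.Agent.Tits.Roots Cfsg.Agent.Tits.Core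
  Cfsg.Agent.Tits.RootComb Cfsg.Agent.Nodes.Comb Cfsg.Agent.Nodes.Reps Cfsg.Agent.Nodes.BNOf
  Cfsg.Agent.Nodes.RGDLib Cfsg.Agent.Nodes.Bruhat Cfsg.Agent.Nodes.NormalForm Cfsg.Agent.Nodes.OppDec
open Cfsg.Agent.H557.SLTwist Cfsg.Agent.H557.InvForm Cfsg.Agent.H557.Toral Cfsg.Agent.KFacts.RgdField
open Cfsg.Agent.H557.LrRho (actW rep_word)
open Cfsg.Agent.FixBN.FieldRGD (uu vv dd ww)
open Cfsg.Agent.H857.KKL.TorAbs
open scoped MatrixGroups commutatorElement

/-- a basis of a root subsystem: Coxeter matrix, Cartan matrix, and the simple roots `actW A (ω i) (sr (a i))` -/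
structure Bas (l l' : ℕ) where
  M : CoxeterMatrix (Fin l')
  A : Fin l' → Fin l' → ℤ
  cart : IsCartan M A
  a : Fin l' → Fin l
  ω : Fin l' → List (Fin l)

variable {l l' : ℕ} (B : Bas l l')

/-- the Coxeter system of the basis -/
noncomputable abbrev Bas.cs : CoxeterSystem B.M B.M.Group := B.M.toCoxeterSystem

/-- the simple roots of the subsystem -/
def Bas.b (A : Fin l → Fin l → ℤ) (i : Fin l') : Fin l → ℤ := actW A (B.ω i) (sr (B.a i))

/-- the embedding of the root lattice -/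
def Bas.io (A : Fin l → Fin l → ℤ) (x : Fin l' → ℤ) : Fin l → ℤ := ∑ i, x i • B.b A i

theorem io_add (A : Fin l → Fin l → ℤ) (x y : Fin l' → ℤ) : B.io A (x + y) = B.io A x + B.io A y := by
  unfold Bas.io
  rw [← Finset.sum_add_distrib]
  exact Finset.sum_congr rfl fun i _ => by rw [Pi.add_apply, add_smul]

theorem io_smul (A : Fin l → Fin l → ℤ) (c : ℤ) (x : Fin l' → ℤ) : B.io A (c • x) = c • B.io A x := by
  unfold Bas.io
  rw [Finset.smul_sum]
  exact Finset.sum_congr rfl fun i _ => by rw [Pi.smul_apply, smul_eq_mul, mul_smul]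

theorem io_neg (A : Fin l → Fin l → ℤ) (x : Fin l' → ℤ) : B.io A (-x) = -B.io A x := by
  have := io_smul B A (-1) x
  rwa [neg_one_smul, neg_one_smul] at this

theorem io_sub (A : Fin l → Fin l → ℤ) (x y : Fin l' → ℤ) : B.io A (x - y) = B.io A x - B.io A y := by
  rw [sub_eq_add_neg, io_add, io_neg, sub_eq_add_neg]

theorem io_sr (A : Fin l → Fin l → ℤ) (i : Fin l') : B.io A (sr i) = B.b A i := by
  unfold Bas.io
  rw [Finset.sum_eq_single i]
  · rw [sr_self, one_smul]
  · intro k _ hk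
    rw [sr_ne hk, zero_smul]
  · intro hi; exact absurd (Finset.mem_univ i) hi

variable {M : CoxeterMatrix (Fin l)} {W : Type*} [Group W] (cs : CoxeterSystem M W) {A : Fin l → Fin l → ℤ}
  (h : IsCartan M A)

/-- The facts to be checked. -/
structure Good : Prop where
  pair : ∀ i j, pairing A (B.a i) (actW A (B.ω i).reverse (B.b A j)) = B.A i j
  inj : ∀ x, B.io A x = 0 → x = 0
  closed : ∀ x y, IsRoot B.cs B.cart x → IsRoot B.cs B.cart y → x ≠ y → x ≠ -y → ∀ m k : ℤ, 0 < m → 0 < k →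
    IsRoot cs h (m • B.io A x + k • B.io A y) → IsRoot B.cs B.cart (m • x + k • y)

variable {B cs h}

/-- the word of the `i`-th simple root -/
def Bas.w (B : Bas l l') (cs : CoxeterSystem M W) (i : Fin l') : W := cs.wordProd (B.ω i)

/-- the reflection in the `i`-th simple root -/
def Bas.s (B : Bas l l') (cs : CoxeterSystem M W) (i : Fin l') : W :=
  B.w cs i * cs.simple (B.a i) * (B.w cs i)⁻¹

variable (h) in
theorem rep_w (i : Fin l') : rep cs h (B.w cs i) (sr (B.a i)) = B.b A i := rep_word cs h _ _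

variable (h) in
theorem rep_s (i : Fin l') (v : Fin l → ℤ) :
    rep cs h (B.s cs i) v = v - pairing A (B.a i) (actW A (B.ω i).reverse v) • B.b A i := by
  unfold Bas.s
  rw [rep_mul_apply, rep_mul_apply, rep_simple_eq, map_sub, ← rep_mul_apply, mul_inv_cancel, map_one,
    Module.End.one_apply, map_smul, rep_w h]
  congr 3
  unfold Bas.w
  rw [← cs.wordProd_reverse, rep_word cs h]

variable (h) in
theorem isRoot_b (i : Fin l') : IsRoot cs h (B.b A i) := ⟨B.w cs i, B.a i, (rep_w h i).symm⟩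

theorem act_add (ω : List (Fin l)) (x y : Fin l → ℤ) : actW A ω (x + y) = actW A ω x + actW A ω y := by
  induction ω with
  | nil => rfl
  | cons i ω ih =>
    show actW A ω (x + y) - pairing A i (actW A ω (x + y)) • sr i =
      actW A ω x - pairing A i (actW A ω x) • sr i + (actW A ω y - pairing A i (actW A ω y) • sr i)
    rw [ih, pairing_add, add_smul]
    abel

theorem act_smul (ω : List (Fin l)) (c : ℤ) (x : Fin l → ℤ) : actW A ω (c • x) = c • actW A ω x := by
  induction ω with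
  | nil => rfl
  | cons i ω ih =>
    show actW A ω (c • x) - pairing A i (actW A ω (c • x)) • sr i =
      c • (actW A ω x - pairing A i (actW A ω x) • sr i)
    rw [ih, pairing_smul, smul_sub, mul_smul]

/-- the coroot functional -/
def Bas.p (B : Bas l l') (A : Fin l → Fin l → ℤ) (i : Fin l') (v : Fin l → ℤ) : ℤ :=
  pairing A (B.a i) (actW A (B.ω i).reverse v)

theorem p_add (i : Fin l') (x y : Fin l → ℤ) : B.p A i (x + y) = B.p A i x + B.p A i y := by
  unfold Bas.p
  rw [act_add, pairing_add]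

theorem p_smul (i : Fin l') (c : ℤ) (x : Fin l → ℤ) : B.p A i (c • x) = c * B.p A i x := by
  unfold Bas.p
  rw [act_smul, pairing_smul]

theorem p_io (H : Good B cs h) (i : Fin l') (x : Fin l' → ℤ) : B.p A i (B.io A x) = pairing B.A i x := by
  have key : ∀ s : Finset (Fin l'), B.p A i (∑ j ∈ s, x j • B.b A j) = ∑ j ∈ s, B.A i j * x j := by
    classical
    intro s
    induction s using Finset.induction_on with
    | empty =>
      rw [Finset.sum_empty, Finset.sum_empty]
      have := p_smul (B := B) (A := A) i 0 0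
      rwa [zero_smul, zero_mul] at this
    | insert j s hj ih =>
      rw [Finset.sum_insert hj, Finset.sum_insert hj, p_add, ih, p_smul, mul_comm]
      congr 1
      exact congrArg (· * x j) (H.pair i j)
  exact key _

/-- the embedding intertwines the reflections -/
theorem rep_io (H : Good B cs h) (i : Fin l') (x : Fin l' → ℤ) :
    rep cs h (B.s cs i) (B.io A x) = B.io A (rep B.cs B.cart (B.cs.simple i) x) := by
  rw [rep_s h, rep_simple_eq, io_sub, io_smul, io_sr]
  congr 2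
  exact p_io H i x

theorem isRoot_io (H : Good B cs h) {x : Fin l' → ℤ} (hx : IsRoot B.cs B.cart x) : IsRoot cs h (B.io A x) := by
  obtain ⟨w, i, rfl⟩ := hx
  obtain ⟨ω, rfl⟩ := B.cs.wordProd_surjective w
  induction ω with
  | nil =>
    rw [wordProd_nil, map_one, Module.End.one_apply, io_sr]
    exact isRoot_b h i
  | cons j ω ih =>
    rw [wordProd_cons, rep_mul_apply, ← rep_io H]
    exact ih.act _

theorem io_inj (H : Good B cs h) {x y : Fin l' → ℤ} (hxy : B.io A x = B.io A y) : x = y := by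
  have h1 : B.io A (x - y) = 0 := by rw [io_sub, hxy, sub_self]
  exact sub_eq_zero.1 (H.inj _ h1)

/-- the reflections satisfy the braid relations -/
theorem s_rel (H : Good B cs h) (i j : Fin l') : (B.s cs i * B.s cs j) ^ B.M i j = 1 := by
  apply rep_injective cs h
  rw [map_one]
  have hi := B.cart.diag i
  have hj := B.cart.diag j
  have hp : ∀ i j, B.p A i (B.b A j) = B.A i j := fun i j => H.pair i j
  by_cases hij : i = j
  · subst hij
    have h1 : B.s cs i * B.s cs i = 1 := by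
      unfold Bas.s
      have : B.w cs i * cs.simple (B.a i) * (B.w cs i)⁻¹ * (B.w cs i * cs.simple (B.a i) * (B.w cs i)⁻¹) =
        B.w cs i * (cs.simple (B.a i) * cs.simple (B.a i)) * (B.w cs i)⁻¹ := by group
      rw [this, cs.simple_mul_simple_self]; group
    rw [h1, one_pow, map_one]
  have key : ∀ (v : Fin l → ℤ) (x y x' y' : ℤ),
      (x' = -x - B.p A i v - B.A i j * (-y - B.p A j v - B.A j i * x)) →
      (y' = -y - B.p A j v - B.A j i * x) →
      rep cs h (B.s cs i * B.s cs j) (v + x • B.b A i + y • B.b A j) = v + x' • B.b A i + y' • B.b A j := by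
    intro v x y x' y' hx hy
    rw [rep_mul_apply, rep_s h, rep_s h]
    change v + x • B.b A i + y • B.b A j - B.p A j (v + x • B.b A i + y • B.b A j) • B.b A j -
      B.p A i (v + x • B.b A i + y • B.b A j - B.p A j (v + x • B.b A i + y • B.b A j) • B.b A j) • B.b A i = _
    have e1 : B.p A j (v + x • B.b A i + y • B.b A j) = B.p A j v + x * B.A j i + y * 2 := by
      rw [p_add, p_add, p_smul, p_smul, hp, hp, hj]
    rw [e1]
    have e2 : v + x • B.b A i + y • B.b A j - (B.p A j v + x * B.A j i + y * 2) • B.b A j =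
        v + x • B.b A i + y' • B.b A j := by
      rw [hy]
      module
    rw [e2]
    have e3 : B.p A i (v + x • B.b A i + y' • B.b A j) = B.p A i v + x * 2 + y' * B.A i j := by
      rw [p_add, p_add, p_smul, p_smul, hp, hp, hi]
    rw [e3, hx, ← hy]
    module
  have hz : ∀ v : Fin l → ℤ, v = v + (0 : ℤ) • B.b A i + (0 : ℤ) • B.b A j := by
    intro v; simp
  rw [map_pow]
  rcases B.cart.rel i j hij with ⟨hm, hp, hq⟩ | ⟨hm, hp, hq⟩ | ⟨hm, ⟨hp, hq⟩ | ⟨hp, hq⟩⟩ | ⟨hm, ⟨hp, hq⟩ | ⟨hp, hq⟩⟩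
  all_goals
    rw [hm]
    refine LinearMap.ext fun v => ?_
    rw [Module.End.one_apply]
    simp only [pow_succ, pow_zero, one_mul]
    simp only [hp, hq] at key
    generalize hR : rep cs h (B.s cs i * B.s cs j) = R at key ⊢
    simp only [Module.End.mul_apply]
    conv_lhs => rw [hz v]
    conv_rhs => rw [hz v]
    repeat rw [key v _ _ _ _ rfl rfl]
    congr 2
    · congr 1
      ring
    · ring


/-! ### the root group data -/

section Group

variable {p : ℕ} {Y : Type*} [Group Y] {T : Subgroup Y} {n : Fin l → Y} {X : (Fin l → ℤ) → Subgroup Y}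

/-- the representative of the word of the `i`-th simple root -/
def Bas.gg (B : Bas l l') (n : Fin l → Y) (i : Fin l') : Y := ((B.ω i).map n).prod

/-- the representative of the reflection in the `i`-th simple root -/
def Bas.nn (B : Bas l l') (n : Fin l → Y) (i : Fin l') : Y := B.gg n i * n (B.a i) * (B.gg n i)⁻¹

theorem rp_list (hN : NSys M T n) (ω : List (Fin l)) : Rp cs hN (cs.wordProd ω) ((ω.map n).prod) := by
  induction ω with
  | nil => rw [wordProd_nil]; exact rp_one
  | cons i L ih => rw [wordProd_cons, List.map_cons, List.prod_cons]; exact (rp_simple cs _ i).mul ih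

theorem rp_g (hN : NSys M T n) (i : Fin l') : Rp cs hN (B.w cs i) (B.gg n i) := rp_list hN _

theorem rp_n (hN : NSys M T n) (i : Fin l') : Rp cs hN (B.s cs i) (B.nn n i) :=
  ((rp_g hN i).mul (rp_simple cs hN _)).mul (rp_g hN i).inv

theorem rp_pow {hN : NSys M T n} {w : W} {g : Y} (hg : Rp cs hN w g) (m : ℕ) : Rp cs hN (w ^ m) (g ^ m) := by
  induction m with
  | zero => rw [pow_zero, pow_zero]; exact rp_one
  | succ m ih => rw [pow_succ, pow_succ]; exact ih.mul hg

/-- integral commutator relations -/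
def CommI (cs : CoxeterSystem M W) (h : IsCartan M A) (X : (Fin l → ℤ) → Subgroup Y) : Prop :=
  ∀ x y, IsRoot cs h x → IsRoot cs h y → x ≠ y → x ≠ -y → ∀ a ∈ X x, ∀ b ∈ X y, ∀ S : Subgroup Y,
    (∀ m k : ℤ, 0 < m → 0 < k → IsRoot cs h (m • x + k • y) → X (m • x + k • y) ≤ S) → ⁅a, b⁆ ∈ S

variable (R : RGD cs h p T n X)

include R in
theorem rp_normal (i : Fin l') {t : Y} (ht : t ∈ T) : B.gg n i * t * (B.gg n i)⁻¹ ∈ T :=
  (Subgroup.mem_normalizer_iff.1 (rp_g (cs := cs) (B := B) R.nsys i).mem_normalizer t).1 ht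

include R in
/-- **the root group data of the subsystem** -/
theorem rgdS [Finite W] (H : Good B cs h) (hC : CommI cs h X) :
    RGD B.cs B.cart p T (B.nn n) (fun x => X (B.io A x)) where
  nsys := by
    refine ⟨fun i => (rp_n (cs := cs) (B := B) R.nsys i).mem_normalizer, fun i j => ?_⟩
    have h1 := rp_pow ((rp_n (cs := cs) (B := B) R.nsys i).mul (rp_n (cs := cs) (B := B) R.nsys j)) (B.M i j)
    rw [s_rel H] at h1
    exact h1.mem_of_one
  conj i x hx := by
    rw [R.conj_rp (rp_n (cs := cs) (B := B) R.nsys i) (isRoot_io H hx), rep_io H]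
  tor x hx t ht := R.tor _ (isRoot_io H hx) t ht
  comm x y hx hy hxy hxy' a ha b hb := by
    refine hC _ _ (isRoot_io H hx) (isRoot_io H hy) (fun e => hxy (io_inj H e)) (fun e => hxy' ?_) a ha b hb _
      fun m k hm hk hr => ?_
    · rw [← io_neg] at e
      exact io_inj H e
    · have h1 := H.closed x y hx hy hxy hxy' m k hm hk hr
      have h2 := le_btw_of (X := fun x => X (B.io A x)) (.of_int (x := x) (y := y) h1 hm hk rfl)
      rwa [io_add, io_smul, io_smul] at h2
  rk1 i u hu hne := by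
    have hg := rp_g (cs := cs) (B := B) R.nsys i
    have e1 : B.io A (-sr i) = rep cs h (B.w cs i) (-sr (B.a i)) := by
      rw [map_neg, rep_w h, io_neg, io_sr]
    have e2 : B.io A (sr i) = rep cs h (B.w cs i) (sr (B.a i)) := by
      rw [rep_w h, io_sr]
    have hu' : (B.gg n i)⁻¹ * u * B.gg n i ∈ X (-sr (B.a i)) := by
      rw [e1] at hu
      have := R.conj_mem' hg ((isRoot_sr cs h (B.a i)).neg.act _) hu
      rwa [rep_inv_apply] at this
    have hne' : (B.gg n i)⁻¹ * u * B.gg n i ≠ 1 := by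
      intro e
      apply hne
      have : u = B.gg n i * ((B.gg n i)⁻¹ * u * B.gg n i) * (B.gg n i)⁻¹ := by group
      rw [this, e]; group
    obtain ⟨a, ha, t, ht, b, hb, e⟩ := R.rk1 _ _ hu' hne'
    refine ⟨B.gg n i * a * (B.gg n i)⁻¹, ?_, B.gg n i * t * (B.gg n i)⁻¹, rp_normal R i ht,
      B.gg n i * b * (B.gg n i)⁻¹, ?_, ?_⟩
    · rw [e2]; exact R.conj_mem hg (isRoot_sr cs h _) ha
    · rw [e2]; exact R.conj_mem hg (isRoot_sr cs h _) hb
    · have h3 : u = B.gg n i * ((B.gg n i)⁻¹ * u * B.gg n i) * (B.gg n i)⁻¹ := by group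
      rw [h3, e]
      unfold Bas.nn
      group
  pgrp i := R.pgrp' (isRoot_io H (isRoot_sr B.cs B.cart i))
  notp i hP := by
    have hg := rp_g (cs := cs) (B := B) R.nsys i
    apply R.notp (B.a i)
    have e1 : X (B.io A (-sr i)) = cj (B.gg n i) (X (-sr (B.a i))) := by
      rw [R.conj_rp hg (isRoot_sr cs h _).neg, map_neg, rep_w h, io_neg, io_sr]
    have e2 : X (B.io A (sr i)) = cj (B.gg n i) (X (sr (B.a i))) := by
      rw [R.conj_rp hg (isRoot_sr cs h _), rep_w h, io_sr]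
    rw [e1, e2, ← cj_sup] at hP
    unfold cj at hP
    exact hP.of_equiv ((X (sr (B.a i)) ⊔ X (-sr (B.a i))).equivMapOfInjective _
      (MulAut.conj (B.gg n i)).injective).symm
  tcop := R.tcop

variable {K : Type*} [Field K] {x : (Fin l → ℤ) → K → Y} {χ : (Fin l → ℤ) → Y → K}

include R in
theorem coordsS (H : Good B cs h) (C : Coords cs h T n X x χ) :
    Coords B.cs B.cart T (B.nn n) (fun v => X (B.io A v)) (fun v => x (B.io A v)) (fun v => χ (B.io A v)) where
  coord r hr := C.coord _ (isRoot_io H hr)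
  nact i r hr := by
    obtain ⟨c, hc, e⟩ := rp_act C R.nsys (rp_n (cs := cs) (B := B) R.nsys i) (isRoot_io H hr)
    refine ⟨c, hc, fun a => ?_⟩
    rw [e a, rep_io H]

include R in
/-- a torus element acts by inverse scalars on opposite root groups of a node -/
theorem inv_of [Finite W] {i : Fin l} {φ : SL(2, K) →* Y} (hu : ∀ a, φ (uu a) ∈ X (sr i)) (hv : ∀ a, φ (vv a) ∈ X (-sr i))
    (hw : φ (ww 1 one_ne_zero) = n i) (hd : ∀ c hc, φ (dd c hc) ∈ T) {t : Y} (ht : t ∈ T) {c c' : K}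
    (h1 : t * φ (uu 1) * t⁻¹ = φ (uu c)) (h2 : t * φ (vv (-1)) * t⁻¹ = φ (vv (-c'))) : c * c' = 1 := by
  by_contra hne
  set δ := 1 - c * c' with hδ
  have hδ0 : δ ≠ 0 := fun h0 => hne (sub_eq_zero.1 h0).symm
  have e3 : n i = φ (uu 1) * (φ (vv (-1)) * φ (uu 1)) := by
    rw [← hw, ww_eq, map_mul, map_mul, inv_one]
  have e4 : t * n i * t⁻¹ = φ (uu c) * (φ (vv (-c')) * φ (uu c)) := by
    rw [← h1, ← h2, e3]; group
  have e5 : (uu c * (vv (-c') * uu c) : SL(2, K)) = vv (-c' / δ) * (dd δ hδ0 * uu (c * (2 - c * c') / δ)) := by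
    apply Subtype.ext
    show !![1, c; 0, 1] * (!![1, 0; -c', 1] * !![1, c; 0, 1]) =
      !![1, 0; -c' / δ, 1] * (!![δ, 0; 0, δ⁻¹] * !![1, c * (2 - c * c') / δ; 0, 1])
    rw [Matrix.mul_fin_two, Matrix.mul_fin_two, Matrix.mul_fin_two, Matrix.mul_fin_two]
    congr 1
    ext i j
    fin_cases i <;> fin_cases j
    · simp [hδ]; ring
    · simp
      field_simp
      ring
    · simp
      field_simp
    · simp
      field_simp
      rw [hδ]
      ring
  rw [← map_mul, ← map_mul, e5, map_mul, map_mul] at e4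
  have hrp : Rp cs R.nsys (cs.simple i) (t * n i * t⁻¹) := by
    have := ((rp_of_mem (cs := cs) (hN := R.nsys) ht).mul (rp_simple cs R.nsys i)).mul
      (rp_of_mem (cs := cs) (hN := R.nsys) (inv_mem ht))
    rwa [one_mul, mul_one] at this
  have hz : (n i)⁻¹ * φ (vv (-c' / δ)) * n i ∈ RGD.B cs h T X := by
    have h5 := R.conj_mem' (rp_simple cs R.nsys i) (isRoot_sr cs h i).neg (hv (-c' / δ))
    rw [cs.inv_simple, map_neg, rep_simple_sr, neg_neg] at h5
    exact RGD.X_le_B (isRoot_sr cs h i) (sr_nonneg i) h5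
  have hcell : Cell R.nsys cs h X (cs.simple i) ((n i)⁻¹ * (t * n i * t⁻¹)) := by
    rw [e4]
    refine ⟨(n i)⁻¹ * φ (vv (-c' / δ)) * n i, hz, (n i)⁻¹, ?_, φ (dd δ hδ0) * φ (uu (c * (2 - c * c') / δ)), ?_, by group⟩
    · have := (rp_simple cs R.nsys i).inv
      rwa [cs.inv_simple] at this
    · exact mul_mem (RGD.T_le_B (hd _ _)) (RGD.X_le_B (isRoot_sr cs h i) (sr_nonneg i) (hu _))
  have hcell' : Cell R.nsys cs h X 1 ((n i)⁻¹ * (t * n i * t⁻¹)) := by
    have h6 := (rp_simple cs R.nsys i).inv.mul hrp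
    rw [cs.inv_simple, cs.simple_mul_simple_self] at h6
    exact cell_of_rp h6
  have h7 := Cell.unique R hcell hcell'
  have h8 := rep_simple_sr cs h i
  rw [h7, map_one, Module.End.one_apply] at h8
  have h9 := congrFun h8 i
  rw [Pi.neg_apply, sr_self] at h9
  omega

/-- the homomorphisms from `SL(2, K)` of the simple roots of the subsystem -/
def Bas.ph (B : Bas l l') (n : Fin l → Y) (φ : Fin l → SL(2, K) →* Y) (i : Fin l') : SL(2, K) →* Y :=
  (MulAut.conj (B.gg n i)).toMonoidHom.comp (φ (B.a i))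

theorem ph_apply (φ : Fin l → SL(2, K) →* Y) (i : Fin l') (g : SL(2, K)) :
    B.ph n φ i g = B.gg n i * φ (B.a i) g * (B.gg n i)⁻¹ := rfl

/-- the homomorphisms of the nodes -/
structure Nod (cs : CoxeterSystem M W) (h : IsCartan M A) (T : Subgroup Y) (n : Fin l → Y)
    (x : (Fin l → ℤ) → K → Y) (χ : (Fin l → ℤ) → Y → K) (φ : Fin l → SL(2, K) →* Y) : Prop where
  hu : ∀ i a, φ i (uu a) = x (sr i) a
  hv : ∀ i a, φ i (vv a) = x (-sr i) a
  hw : ∀ i, φ i (ww 1 one_ne_zero) = n i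
  hd : ∀ i c hc, φ i (dd c hc) ∈ T
  hch : ∀ i r, IsRoot cs h r → ∀ c hc, χ r (φ i (dd c hc)) = c ^ pairing A i r

variable {φ : Fin l → SL(2, K) →* Y}

/-- **the `SL(2, K)`s of the subsystem** -/
theorem slsS [Finite W] (H : Good B cs h) (hC : CommI cs h X) (C : Coords cs h T n X x χ)
    (P : Nod cs h T n x χ φ) :
    SLS B.cs B.cart (rgdS R H hC).nsys (fun v => X (B.io A v)) (B.ph n φ) (fun i => χ (B.b A i)) := by
  have hg : ∀ i, Rp cs R.nsys (B.w cs i) (B.gg n i) := fun i => rp_g R.nsys i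
  have hr : ∀ i : Fin l, IsRoot cs h (sr i) := fun i => isRoot_sr cs h i
  have eb : ∀ i, B.io A (sr i) = rep cs h (B.w cs i) (sr (B.a i)) := fun i => by rw [io_sr, rep_w h]
  have eb' : ∀ i, B.io A (-sr i) = rep cs h (B.w cs i) (-sr (B.a i)) := fun i => by
    rw [io_neg, eb, map_neg]
  have hgt : ∀ i, ∀ t ∈ T, (B.gg n i)⁻¹ * t * B.gg n i ∈ T := by
    intro i t ht
    have h1 := (Subgroup.mem_normalizer_iff.1 (hg i).inv.mem_normalizer t).1 ht
    rwa [inv_inv] at h1
  have hchi : ∀ i, ∀ t ∈ T, χ (sr (B.a i)) ((B.gg n i)⁻¹ * t * B.gg n i) = χ (B.b A i) t := by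
    intro i t ht
    have h1 := C.chi_rp R.nsys (hg i) (hr (B.a i)) (hgt i t ht)
    rw [rep_w h] at h1
    rw [← h1]
    congr 1
    group
  have mem_up : ∀ (i : Fin l) y, y ∈ X (sr i) ↔ ∃ a, φ i (uu a) = y := by
    intro i y
    rw [(C.coord _ (hr i)).mem]
    exact exists_congr fun a => by rw [P.hu]
  have mem_lo : ∀ (i : Fin l) y, y ∈ X (-sr i) ↔ ∃ a, φ i (vv a) = y := by
    intro i y
    rw [(C.coord _ (hr i).neg).mem]
    exact exists_congr fun a => by rw [P.hv]
  have htl : ∀ i : Fin l, ∀ t ∈ T, ∀ a, t * φ i (vv a) * t⁻¹ = φ i (vv ((χ (sr i) t)⁻¹ * a)) := by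
    intro i t ht a
    have h1 := (C.coord _ (hr i)).act t ht 1
    have h2 := (C.coord _ (hr i).neg).act t ht
    have h3 := inv_of R (i := i) (φ := φ i) (fun a => (mem_up i _).2 ⟨a, rfl⟩) (fun a => (mem_lo i _).2 ⟨a, rfl⟩)
      (P.hw i) (P.hd i) ht (c := χ (sr i) t) (c' := χ (-sr i) t) (by rw [P.hu, P.hu, h1, mul_one])
      (by rw [P.hv, P.hv, h2, mul_neg, mul_one])
    rw [P.hv, P.hv, h2, eq_inv_of_mul_eq_one_right h3]
  have hmem : ∀ (i : Fin l') (v : Fin l → ℤ) (u : Fin l → ℤ), IsRoot cs h v → u = rep cs h (B.w cs i) v → ∀ y,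
      y ∈ X u ↔ (B.gg n i)⁻¹ * y * B.gg n i ∈ X v := by
    intro i v u hv hu y
    constructor
    · intro hy
      rw [hu] at hy
      have := R.conj_mem' (hg i) (hv.act _) hy
      rwa [rep_inv_apply] at this
    · intro hy
      rw [hu]
      have := R.conj_mem (hg i) hv hy
      have e : B.gg n i * ((B.gg n i)⁻¹ * y * B.gg n i) * (B.gg n i)⁻¹ = y := by group
      rwa [e] at this
  have CS := coordsS R H C
  have key : ∀ i, (∃ s, s ≠ 0 ∧ ∀ a, B.ph n φ i (uu a) = x (B.io A (sr i)) (s * a)) ∧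
      ∃ s, s ≠ 0 ∧ ∀ a, B.ph n φ i (vv a) = x (B.io A (-sr i)) (s * a) := by
    intro i
    obtain ⟨s, hs, e⟩ := rp_act C R.nsys (hg i) (hr (B.a i))
    obtain ⟨s', hs', e'⟩ := rp_act C R.nsys (hg i) (hr (B.a i)).neg
    rw [← eb] at e
    rw [← eb'] at e'
    exact ⟨⟨s, hs, fun a => by rw [ph_apply, P.hu, e]⟩, ⟨s', hs', fun a => by rw [ph_apply, P.hv, e']⟩⟩
  refine ⟨fun i y => ?_, fun i y => ?_, fun i a b e => ?_, fun i a b e => ?_, fun i => ?_, fun i c hc => ?_,
    fun i t ht => ?_, fun i t ht a => ?_, fun i t ht a => ?_, fun i j c hc => ?_, fun i w k hk hi => ?_,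
    fun i w k hk hi => ?_⟩
  · show y ∈ X (B.io A (sr i)) ↔ _
    rw [hmem i _ _ (hr _) (eb i), mem_up]
    refine exists_congr fun a => ?_
    rw [ph_apply, mul_inv_eq_iff_eq_mul, mul_assoc, eq_inv_mul_iff_mul_eq]
  · show y ∈ X (B.io A (-sr i)) ↔ _
    rw [hmem i _ _ (hr _).neg (eb' i), mem_lo]
    refine exists_congr fun a => ?_
    rw [ph_apply, mul_inv_eq_iff_eq_mul, mul_assoc, eq_inv_mul_iff_mul_eq]
  · rw [ph_apply, ph_apply, mul_left_inj, mul_right_inj, P.hu, P.hu] at e
    exact (C.coord _ (hr _)).inj e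
  · rw [ph_apply, ph_apply, mul_left_inj, mul_right_inj, P.hv, P.hv] at e
    exact (C.coord _ (hr _).neg).inj e
  · rw [ph_apply, P.hw]
    rfl
  · exact rp_normal R i (P.hd _ c hc)
  · exact (C.coord _ (isRoot_b h i)).chi_ne_zero ht
  · rw [ph_apply, ph_apply]
    have h1 := (C.coord _ (hr (B.a i))).act _ (hgt i t ht) a
    rw [hchi i t ht, ← P.hu, ← P.hu] at h1
    rw [← h1]; group
  · rw [ph_apply, ph_apply]
    have h1 := htl (B.a i) _ (hgt i t ht) a
    rw [hchi i t ht] at h1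
    rw [← h1]; group
  · rw [ph_apply]
    have h1 := C.chi_rp R.nsys (hg i) (r := rep cs h (B.w cs i)⁻¹ (B.b A j)) ((isRoot_b h j).act _) (P.hd (B.a i) c hc)
    rw [← rep_mul_apply, mul_inv_cancel, map_one, Module.End.one_apply, P.hch _ _ ((isRoot_b h j).act _)] at h1
    rw [h1]
    congr 1
    rw [← H.pair i j]
    congr 1
    unfold Bas.w
    rw [← cs.wordProd_reverse, rep_word cs h]
  · obtain ⟨⟨s, hs, e⟩, ⟨s', hs', e'⟩⟩ := key i
    obtain ⟨c, hc, e2⟩ := rp_act CS (rgdS R H hC).nsys hk (isRoot_sr B.cs B.cart i)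
    rw [hi] at e2
    refine ⟨c * s / s', div_ne_zero (mul_ne_zero hc hs) hs', fun a => ?_⟩
    rw [e, e2, e']
    congr 1
    field_simp
  · obtain ⟨⟨s, hs, e⟩, ⟨s', hs', e'⟩⟩ := key i
    obtain ⟨c, hc, e2⟩ := rp_act CS (rgdS R H hC).nsys hk (isRoot_sr B.cs B.cart i).neg
    rw [map_neg, hi, neg_neg] at e2
    refine ⟨c * s' / s, div_ne_zero (mul_ne_zero hc hs') hs, fun a => ?_⟩
    rw [e', e2, e]
    congr 1
    field_simp

include R in
/-- **TOR lemma for a subsystem**, abstract form -/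
theorem torS [Finite W] (H : Good B cs h) (hC : CommI cs h X) (C : Coords cs h T n X x χ)
    (P : Nod cs h T n x χ φ) (hp2 : Odd p) [CharP K p] [Finite K] (hTc : ∀ a ∈ T, ∀ b ∈ T, a * b = b * a)
    (hodd : ∀ i j, i ≠ j → B.A i j ≠ 0 → Odd (B.A i j) ∨ Odd (B.A j i)) {g : Y}
    (hg : g ∈ GG B.cs B.cart T (fun v => X (B.io A v))) (h2 : g * g = 1) :
    ∃ r ∈ G1 B.cs B.cart (fun v => X (B.io A v)), ∃ θ ∈ T, ∃ (L : List (Fin l')) (c : Fin l' → Kˣ), L.Nodup ∧
      TorAbs.Orth B.A L ∧ r * g * r⁻¹ = θ * (L.map (B.nn n)).prod ∧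
      (∀ i ∈ L, ((c i : Kˣ) : K) = -(χ (B.b A i) θ)⁻¹ ∧ ¬ IsSquare ((c i : Kˣ) : K)) ∧
      θ * θ * (L.map fun i => ht (B.ph n φ) i (c i)).prod = 1 := by
  have : Finite B.M.Group := by
    have h1 : ∀ (w : B.M.Group) (i : Fin l'), ∃ r : {v // IsRoot cs h v}, (r : Fin l → ℤ) = B.io A (rep B.cs B.cart w (sr i)) :=
      fun w i => ⟨⟨_, isRoot_io H ((isRoot_sr B.cs B.cart i).act w)⟩, rfl⟩
    choose f hf using h1
    have hfin : Finite {v // IsRoot cs h v} := (RGD.finite_roots (cs := cs) (h := h)).to_subtype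
    refine Finite.of_injective f ?_
    intro u v huv
    have h2 : u⁻¹ * v = 1 := by
      refine eq_one_of_fix B.cs B.cart _ fun i => ?_
      have h3 : rep B.cs B.cart v (sr i) = rep B.cs B.cart u (sr i) := by
        apply io_inj H
        rw [← hf, ← hf, huv]
      show rep B.cs B.cart (u⁻¹ * v) (sr i) = sr i
      rw [rep_mul_apply, h3, rep_inv_apply]
    exact inv_mul_eq_one.1 h2
  exact tor (rgdS R H hC) (slsS R H hC C P) hp2 hTc hodd hg h2

end Group

end Cfsg.Agent.H857.KKL.TorSub
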